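import Cfsg.Agent.Lib.SymSylow.Basic
import Mathlib

/-! Level criterion for the dyadic Sylow 2-subgroup, restrictions to classes, xor elements. -/

set_option autoImplicit false

open Equiv Equiv.Perm

namespace Cfsg.Agent.Lib.SymSylow.Crit

open Cfsg.Agent.Lib.SymSylow.Basic

variable {n : ℕ}

/-- Every level relation is preserved. -/
def Crit (σ : Perm (Fin n)) : Prop :=
  ∀ (k : ℕ) (i j : Fin n), i.val / 2 ^ k = j.val / 2 ^ k → (σ i).val / 2 ^ k = (σ j).val / 2 ^ k

theorem crit_pow {σ : Perm (Fin n)} (h : Crit σ) (a : ℕ) : Crit (σ ^ a) := by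
  induction a with
  | zero => intro k i j e; simpa using e
  | succ a ih => intro k i j e; rw [pow_succ', Equiv.Perm.mul_apply, Equiv.Perm.mul_apply]; exact h k _ _ (ih k i j e)

theorem crit_symm {σ : Perm (Fin n)} (h : Crit σ) (k : ℕ) (i j : Fin n)
    (e : (σ i).val / 2 ^ k = (σ j).val / 2 ^ k) : i.val / 2 ^ k = j.val / 2 ^ k := by
  have h1 := crit_pow h (orderOf σ - 1) k (σ i) (σ j) e
  have h2 : ∀ x, (σ ^ (orderOf σ - 1)) (σ x) = x := fun x => by
    rw [← Equiv.Perm.mul_apply, ← pow_succ, Nat.sub_add_cancel (orderOf_pos σ), pow_orderOf_eq_one]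
    rfl
  rwa [h2, h2] at h1

theorem div_succ (a k : ℕ) : a / 2 ^ (k + 1) = a / 2 / 2 ^ k := by
  rw [pow_succ', Nat.div_div_eq_div_mul]

theorem mem_of_crit : ∀ (n : ℕ) {σ : Perm (Fin n)}, Crit σ → σ ∈ dyadic n := by
  intro n
  induction n using Nat.strong_induction_on with
  | _ n ih =>
    intro σ h
    by_cases hn : n < 2
    · rw [dyadic, dif_pos hn]
      exact Subgroup.mem_top _
    · have hp : PresPairs σ := by
        intro i j
        constructor
        · intro e; simpa using h 1 i j (by simpa using e)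
        · intro e; simpa using crit_symm h 1 i j (by simpa using e)
      refine mem_dyadic_iff.mpr ⟨hp, ih (n / 2) (by omega) fun k s t e => ?_⟩
      have hs : (rep s).val / 2 = s.val := by simp [rep]
      have ht : (rep t).val / 2 = t.val := by simp [rep]
      rw [bar_apply hp s (rep s) hs, bar_apply hp t (rep t) ht, ← div_succ, ← div_succ]
      exact h (k + 1) _ _ (by rw [div_succ, div_succ, hs, ht]; exact e)

theorem crit_of_mem : ∀ (k : ℕ) {n : ℕ} {σ : Perm (Fin n)}, σ ∈ dyadic n →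
    (∀ i j : Fin n, i.val / 2 ^ k = j.val / 2 ^ k → (σ i).val / 2 ^ k = (σ j).val / 2 ^ k) ∧
    ∀ i : Fin n, ((σ i).val / 2 ^ k < n / 2 ^ k ↔ i.val / 2 ^ k < n / 2 ^ k) := by
  intro k
  induction k with
  | zero =>
    intro n σ _
    simp only [pow_zero, Nat.div_one]
    exact ⟨fun i j e => by rw [Fin.ext e], fun i => iff_of_true (σ i).isLt i.isLt⟩
  | succ k ih =>
    intro n σ hσ
    have hp := presPairs_of_mem hσ
    obtain ⟨h1, h2⟩ := ih (bar_mem hσ hp)
    have hlast := fun i (hi : ¬ i.val / 2 < n / 2) => apply_last hp i hi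
    refine ⟨fun i j e => ?_, fun i => ?_⟩
    · simp only [div_succ] at e ⊢
      by_cases hi : i.val / 2 < n / 2 <;> by_cases hj : j.val / 2 < n / 2
      · have := h1 ⟨_, hi⟩ ⟨_, hj⟩ e
        rwa [bar_apply hp ⟨_, hi⟩ i rfl, bar_apply hp ⟨_, hj⟩ j rfl] at this
      · rw [hlast j hj]
        have hb := bar_apply hp ⟨_, hi⟩ i rfl
        have hj' : j.val / 2 = n / 2 := by omega
        rw [hj'] at e ⊢
        -- `i` lies in the partial class
        have hnf : ¬ (bar σ hp ⟨_, hi⟩).val / 2 ^ k < n / 2 / 2 ^ k := fun h => by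
          have := (h2 ⟨_, hi⟩).mp h
          rw [show ((⟨_, hi⟩ : Fin (n / 2))).val = i.val / 2 from rfl, e] at this
          omega
        have hle := Nat.div_le_div_right (c := 2 ^ k) (bar σ hp ⟨_, hi⟩).isLt.le
        rw [hb] at hnf hle
        omega
      · rw [hlast i hi]
        have hb := bar_apply hp ⟨_, hj⟩ j rfl
        have hi' : i.val / 2 = n / 2 := by omega
        rw [hi'] at e ⊢
        have hnf : ¬ (bar σ hp ⟨_, hj⟩).val / 2 ^ k < n / 2 / 2 ^ k := fun h => by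
          have := (h2 ⟨_, hj⟩).mp h
          rw [show ((⟨_, hj⟩ : Fin (n / 2))).val = j.val / 2 from rfl, ← e] at this
          omega
        have hle := Nat.div_le_div_right (c := 2 ^ k) (bar σ hp ⟨_, hj⟩).isLt.le
        rw [hb] at hnf hle
        omega
      · rw [hlast i hi, hlast j hj]
        exact e
    · simp only [div_succ]
      by_cases hi : i.val / 2 < n / 2
      · have := h2 ⟨_, hi⟩
        rwa [bar_apply hp ⟨_, hi⟩ i rfl] at this
      · rw [hlast i hi]

theorem crit_iff {σ : Perm (Fin n)} : σ ∈ dyadic n ↔ Crit σ :=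
  ⟨fun h k => (crit_of_mem k h).1, mem_of_crit n⟩

theorem full_iff {σ : Perm (Fin n)} (h : σ ∈ dyadic n) (k : ℕ) (i : Fin n) :
    (σ i).val / 2 ^ k < n / 2 ^ k ↔ i.val / 2 ^ k < n / 2 ^ k :=
  (crit_of_mem k h).2 i

theorem div_eq_of_div_eq {a b k l : ℕ} (hkl : k ≤ l) (h : a / 2 ^ k = b / 2 ^ k) :
    a / 2 ^ l = b / 2 ^ l := by
  obtain ⟨d, rfl⟩ := Nat.exists_eq_add_of_le hkl
  rw [pow_add, ← Nat.div_div_eq_div_mul, ← Nat.div_div_eq_div_mul, h]

/-- Restriction of a permutation to the class `c` of level `k` which it preserves. -/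
def res (k c : ℕ) (σ : Perm (Fin n)) (h : ∀ i : Fin n, (σ i).val / 2 ^ k = c ↔ i.val / 2 ^ k = c) :
    Perm (Fin n) :=
  Equiv.Perm.ofSubtype (σ.subtypePerm (p := fun i : Fin n => i.val / 2 ^ k = c) h)

theorem res_apply {k c : ℕ} {σ : Perm (Fin n)}
    (h : ∀ i : Fin n, (σ i).val / 2 ^ k = c ↔ i.val / 2 ^ k = c) (i : Fin n) :
    res k c σ h i = if i.val / 2 ^ k = c then σ i else i := by
  rw [res]
  split_ifs with hi
  · rw [Equiv.Perm.ofSubtype_apply_of_mem (p := fun i : Fin n => i.val / 2 ^ k = c) _ hi]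
    rfl
  · exact Equiv.Perm.ofSubtype_apply_of_not_mem (p := fun i : Fin n => i.val / 2 ^ k = c) _ hi

theorem res_mem {k c : ℕ} {σ : Perm (Fin n)} (hσ : σ ∈ dyadic n)
    (h : ∀ i : Fin n, (σ i).val / 2 ^ k = c ↔ i.val / 2 ^ k = c) : res k c σ h ∈ dyadic n := by
  refine crit_iff.mpr fun l i j e => ?_
  rw [res_apply, res_apply]
  rcases le_or_gt l k with hl | hl
  · have e' := div_eq_of_div_eq hl e
    by_cases hi : i.val / 2 ^ k = c
    · rw [if_pos hi, if_pos (e' ▸ hi)]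
      exact crit_iff.mp hσ l i j e
    · rw [if_neg hi, if_neg (e' ▸ hi)]
      exact e
  · have key : ∀ x : Fin n, (if x.val / 2 ^ k = c then σ x else x).val / 2 ^ l = x.val / 2 ^ l := by
      intro x
      split_ifs with hx
      · exact div_eq_of_div_eq hl.le (((h x).mpr hx).trans hx.symm)
      · rfl
    rw [key, key, e]

theorem xor_div (a d k : ℕ) (hd : d < 2 ^ k) (l : ℕ) (hl : k ≤ l) :
    (a ^^^ d) / 2 ^ l = a / 2 ^ l := by
  rw [← Nat.shiftRight_eq_div_pow, ← Nat.shiftRight_eq_div_pow, Nat.shiftRight_xor_distrib,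
    Nat.shiftRight_eq_div_pow d l,
    Nat.div_eq_of_lt (hd.trans_le (Nat.pow_le_pow_right (by norm_num) hl)), Nat.xor_zero]

/-- Xor with `d` on the selected full classes of level `k`. -/
def xorFun (k : ℕ) (p : ℕ → Bool) (d : ℕ) (i : Fin n) : Fin n :=
  if h : d < 2 ^ k ∧ i.val / 2 ^ k < n / 2 ^ k ∧ p (i.val / 2 ^ k) = true then
    ⟨i.val ^^^ d, by
      obtain ⟨hd, hf, -⟩ := h
      have := xor_div i.val d k hd k le_rfl
      by_contra hc
      have := Nat.div_le_div_right (c := 2 ^ k) (Nat.le_of_not_lt hc)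
      omega⟩
  else i

theorem xorFun_val (k : ℕ) (p : ℕ → Bool) (d : ℕ) (i : Fin n) :
    (xorFun k p d i).val =
      if d < 2 ^ k ∧ i.val / 2 ^ k < n / 2 ^ k ∧ p (i.val / 2 ^ k) = true then i.val ^^^ d
      else i.val := by
  unfold xorFun
  split_ifs <;> rfl

theorem xorFun_invol (k : ℕ) (p : ℕ → Bool) (d : ℕ) :
    Function.Involutive (xorFun (n := n) k p d) := by
  intro i
  apply Fin.ext
  rw [xorFun_val, xorFun_val]
  by_cases h : d < 2 ^ k ∧ i.val / 2 ^ k < n / 2 ^ k ∧ p (i.val / 2 ^ k) = true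
  · rw [if_pos h, xor_div i.val d k h.1 k le_rfl, if_pos h, Nat.xor_assoc, Nat.xor_self,
      Nat.xor_zero]
  · rw [if_neg h, if_neg h]

/-- Xor with `d` on the selected full classes of level `k`, as a permutation. -/
def xorOn (k : ℕ) (p : ℕ → Bool) (d : ℕ) : Perm (Fin n) :=
  (xorFun_invol (n := n) k p d).toPerm

theorem xorOn_apply (k : ℕ) (p : ℕ → Bool) (d : ℕ) (i : Fin n) :
    xorOn k p d i = xorFun k p d i := rfl

theorem xorOn_apply_pos {k : ℕ} {p : ℕ → Bool} {d : ℕ} {i : Fin n} (hd : d < 2 ^ k)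
    (hf : i.val / 2 ^ k < n / 2 ^ k) (hp : p (i.val / 2 ^ k) = true) :
    (xorOn k p d i).val = i.val ^^^ d := by
  rw [xorOn_apply, xorFun_val, if_pos ⟨hd, hf, hp⟩]

theorem xorOn_apply_neg {k : ℕ} {p : ℕ → Bool} {d : ℕ} {i : Fin n}
    (h : ¬ (i.val / 2 ^ k < n / 2 ^ k ∧ p (i.val / 2 ^ k) = true)) : xorOn k p d i = i := by
  apply Fin.ext
  rw [xorOn_apply, xorFun_val, if_neg fun e => h e.2]

theorem xorOn_mem (k : ℕ) (p : ℕ → Bool) (d : ℕ) : xorOn (n := n) k p d ∈ dyadic n := by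
  refine crit_iff.mpr fun l i j e => ?_
  rw [xorOn_apply, xorOn_apply, xorFun_val, xorFun_val]
  rcases le_or_gt l k with hl | hl
  · rw [div_eq_of_div_eq hl e]
    split_ifs
    · rw [← Nat.shiftRight_eq_div_pow, ← Nat.shiftRight_eq_div_pow, Nat.shiftRight_xor_distrib,
        Nat.shiftRight_xor_distrib, Nat.shiftRight_eq_div_pow i.val, Nat.shiftRight_eq_div_pow j.val, e]
    · exact e
  · split_ifs with h1 h2 h2
    · rw [xor_div _ d k h1.1 l hl.le, xor_div _ d k h1.1 l hl.le, e]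
    · rw [xor_div _ d k h1.1 l hl.le, e]
    · rw [xor_div _ d k h2.1 l hl.le, e]
    · exact e

/-- The point `i` lies in the top block of level `k`. -/
def InBlock (n k : ℕ) (i : Fin n) : Prop := i.val / 2 ^ k + 1 = n / 2 ^ k ∧ n / 2 ^ k % 2 = 1

theorem inBlock_iff (k : ℕ) (i : Fin n) :
    InBlock n k i ↔ i.val / 2 ^ k < n / 2 ^ k ∧ ¬ i.val / 2 ^ (k + 1) < n / 2 ^ (k + 1) := by
  unfold InBlock
  rw [pow_succ, ← Nat.div_div_eq_div_mul, ← Nat.div_div_eq_div_mul]
  generalize i.val / 2 ^ k = a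
  generalize n / 2 ^ k = b
  omega

theorem inBlock_apply {σ : Perm (Fin n)} (h : σ ∈ dyadic n) (k : ℕ) (i : Fin n) :
    InBlock n k (σ i) ↔ InBlock n k i := by
  rw [inBlock_iff, inBlock_iff, full_iff h k i, full_iff h (k + 1) i]

theorem exists_inBlock (i : Fin n) : ∃ k, InBlock n k i := by
  classical
  have he : ∃ k, ¬ i.val / 2 ^ k < n / 2 ^ k := ⟨n, by
    rw [Nat.div_eq_of_lt (Nat.lt_two_pow_self)]
    exact Nat.not_lt_zero _⟩
  obtain ⟨k, hk⟩ : ∃ k, Nat.find he = k + 1 := by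
    refine ⟨Nat.find he - 1, ?_⟩
    have : Nat.find he ≠ 0 := fun e => by
      have := Nat.find_spec he
      rw [e] at this
      simp [i.isLt] at this
    omega
  refine ⟨k, (inBlock_iff k i).mpr ⟨?_, ?_⟩⟩
  · exact Classical.not_not.mp (Nat.find_min he (by omega))
  · rw [← hk]
    exact Nat.find_spec he

theorem inBlock_unique {i : Fin n} {k l : ℕ} (hk : InBlock n k i) (hl : InBlock n l i) : k = l := by
  rw [inBlock_iff] at hk hl
  have mono : ∀ a b : ℕ, a ≤ b → i.val / 2 ^ b < n / 2 ^ b → i.val / 2 ^ a < n / 2 ^ a := by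
    intro a b hab h
    by_contra hc
    obtain ⟨d, rfl⟩ := Nat.exists_eq_add_of_le hab
    rw [pow_add, ← Nat.div_div_eq_div_mul, ← Nat.div_div_eq_div_mul] at h
    have := Nat.div_le_div_right (c := 2 ^ d) (Nat.le_of_not_lt hc)
    omega
  rcases lt_trichotomy k l with h | h | h
  · exact absurd (mono (k + 1) l (by omega) hl.1) hk.2
  · exact h
  · exact absurd (mono (l + 1) k (by omega) hk.1) hl.2

end Cfsg.Agent.Lib.SymSylow.Crit
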