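import Mathlib.GroupTheory.Perm.Sign
import Mathlib.GroupTheory.SpecificGroups.Alternating
import Mathlib.GroupTheory.Sylow
import Mathlib.GroupTheory.Abelianization.Defs
import Mathlib.Data.Nat.Choose.Factorization
import Mathlib.Data.ZMod.Basic

/-!
Sylow subgroups of symmetric and alternating groups are generated by elements of order `p`.
-/

set_option autoImplicit false

namespace Cfsg.Agent.Lib.SymSylow.Generated

open Equiv

variable (p : ℕ) [hp : Fact p.Prime]

/-- `W` is a Sylow p-subgroup of `Perm α` (by order) such that `W` and its even part are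
generated by elements of exponent `p`. -/
def GoodSub {α : Type} [Fintype α] [DecidableEq α] (W : Subgroup (Perm α)) : Prop :=
  Nat.card W = p ^ (Nat.factorial (Fintype.card α)).factorization p ∧
  W ≤ Subgroup.closure {x | x ∈ W ∧ x ^ p = 1} ∧
  W ⊓ alternatingGroup α ≤ Subgroup.closure {x | x ∈ W ∧ x ∈ alternatingGroup α ∧ x ^ p = 1}

omit hp in
theorem goodSub_map {α β : Type} [Fintype α] [DecidableEq α] [Fintype β] [DecidableEq β]
    (f : Perm α →* Perm β) (hf : Function.Injective f) (hs : ∀ x, Perm.sign (f x) = Perm.sign x)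
    (hv : (Nat.factorial (Fintype.card α)).factorization p =
      (Nat.factorial (Fintype.card β)).factorization p)
    {W : Subgroup (Perm α)} (hW : GoodSub p W) : GoodSub p (W.map f) := by
  obtain ⟨h1, h2, h3⟩ := hW
  refine ⟨?_, ?_, ?_⟩
  · rw [← Nat.card_congr (W.equivMapOfInjective f hf).toEquiv, h1, hv]
  · refine le_trans (Subgroup.map_mono h2) ?_
    rw [MonoidHom.map_closure]
    refine Subgroup.closure_mono ?_
    rintro _ ⟨x, ⟨hx, hxp⟩, rfl⟩
    exact ⟨⟨x, hx, rfl⟩, by rw [← map_pow, hxp, map_one]⟩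
  · rintro y ⟨⟨x, hx, rfl⟩, hy⟩
    have hy' : x ∈ alternatingGroup α := by
      rw [Perm.mem_alternatingGroup, ← hs]
      exact Perm.mem_alternatingGroup.mp hy
    have h4 := Subgroup.mem_map_of_mem f (h3 ⟨hx, hy'⟩)
    rw [MonoidHom.map_closure] at h4
    refine Subgroup.closure_mono ?_ h4
    rintro _ ⟨w, ⟨hw, hwe, hwp⟩, rfl⟩
    refine ⟨⟨w, hw, rfl⟩, ?_, by rw [← map_pow, hwp, map_one]⟩
    rw [Perm.mem_alternatingGroup, hs]
    exact Perm.mem_alternatingGroup.mp hwe

section Wreath

variable (m : ℕ)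

/-- the base group acting by translations in each fibre -/
def baseHom : Multiplicative (Fin m → ZMod p) →* Perm (Fin m × ZMod p) where
  toFun f := Equiv.prodCongrRight fun i => Equiv.addRight (f.toAdd i)
  map_one' := by ext x <;> simp
  map_mul' f g := by ext x <;> simp [add_assoc, add_comm (f.toAdd x.1)]

/-- the top group -/
def topHom : Perm (Fin m) →* Perm (Fin m × ZMod p) where
  toFun σ := Equiv.prodCongrLeft fun _ => σ
  map_one' := by ext x <;> simp
  map_mul' f g := by ext x <;> simp

theorem baseHom_apply (f : Multiplicative (Fin m → ZMod p)) (x : Fin m × ZMod p) :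
    baseHom p m f x = (x.1, x.2 + f.toAdd x.1) := rfl

theorem topHom_apply (σ : Perm (Fin m)) (x : Fin m × ZMod p) :
    topHom p m σ x = (σ x.1, x.2) := rfl

theorem topHom_mul_baseHom (σ : Perm (Fin m)) (f : Multiplicative (Fin m → ZMod p)) :
    topHom p m σ * baseHom p m f =
      baseHom p m (Multiplicative.ofAdd fun i => f.toAdd (σ.symm i)) * topHom p m σ := by
  refine Equiv.ext fun x => ?_
  simp [baseHom_apply, topHom_apply]

theorem baseHom_pow (f : Multiplicative (Fin m → ZMod p)) : baseHom p m f ^ p = 1 := by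
  rw [← map_pow]
  have : f ^ p = 1 := by
    apply Multiplicative.toAdd.injective
    ext i
    simp
  rw [this, map_one]

theorem sign_topHom (σ : Perm (Fin m)) : Perm.sign (topHom p m σ) = Perm.sign σ ^ p := by
  show Perm.sign (Equiv.prodCongrLeft fun _ => σ) = _
  rw [Perm.sign_prodCongrLeft, Finset.prod_const, Finset.card_univ, ZMod.card]

theorem sign_eq_one_of_pow {α : Type} [Fintype α] [DecidableEq α] (h2 : p ≠ 2) {x : Perm α}
    (hx : x ^ p = 1) : Perm.sign x = 1 := by
  rcases Int.units_eq_one_or (Perm.sign x) with h | h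
  · exact h
  have h3 : Perm.sign x ^ p = 1 := by rw [← map_pow, hx, map_one]
  rw [h, (hp.out.odd_of_ne_two h2).neg_one_pow] at h3
  exact absurd h3 (by decide)

/-- the wreath subgroup -/
def wreath (W : Subgroup (Perm (Fin m))) : Subgroup (Perm (Fin m × ZMod p)) where
  carrier := {x | ∃ f, ∃ σ ∈ W, x = baseHom p m f * topHom p m σ}
  one_mem' := ⟨1, 1, one_mem W, by simp⟩
  mul_mem' := by
    rintro _ _ ⟨f, σ, hσ, rfl⟩ ⟨g, τ, hτ, rfl⟩
    refine ⟨f * Multiplicative.ofAdd fun i => g.toAdd (σ.symm i), σ * τ, mul_mem hσ hτ, ?_⟩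
    rw [map_mul (baseHom p m), map_mul (topHom p m), mul_assoc (baseHom p m f),
      ← mul_assoc (topHom p m σ), topHom_mul_baseHom]
    simp only [mul_assoc]
  inv_mem' := by
    rintro _ ⟨f, σ, hσ, rfl⟩
    refine ⟨Multiplicative.ofAdd fun i => f⁻¹.toAdd (σ⁻¹.symm i), σ⁻¹, inv_mem hσ, ?_⟩
    rw [mul_inv_rev, ← map_inv, ← map_inv, topHom_mul_baseHom]

theorem card_wreath (W : Subgroup (Perm (Fin m))) :
    Nat.card (wreath p m W) = p ^ m * Nat.card W := by
  have : Function.Bijective (fun fs : Multiplicative (Fin m → ZMod p) × W =>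
      (⟨baseHom p m fs.1 * topHom p m fs.2, fs.1, fs.2, fs.2.2, rfl⟩ : wreath p m W)) := by
    constructor
    · rintro ⟨f, σ⟩ ⟨g, τ⟩ h
      have h' : baseHom p m f * topHom p m σ = baseHom p m g * topHom p m τ :=
        congrArg Subtype.val h
      have hst : (σ : Perm (Fin m)) = τ := by
        refine Equiv.ext fun i => ?_
        have := congrArg Prod.fst (Equiv.congr_fun h' (i, 0))
        simpa [baseHom_apply, topHom_apply] using this
      rw [hst] at h'
      have hfg : f = g := by
        apply Multiplicative.toAdd.injective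
        ext i
        have h'' := mul_right_cancel h'
        have := congrArg Prod.snd (Equiv.congr_fun h'' (i, 0))
        simpa [baseHom_apply] using this
      exact Prod.ext hfg (Subtype.ext hst)
    · rintro ⟨_, f, σ, hσ, rfl⟩
      exact ⟨(f, ⟨σ, hσ⟩), rfl⟩
  rw [← Nat.card_congr (Equiv.ofBijective _ this), Nat.card_prod]
  congr 1
  rw [Nat.card_congr Multiplicative.toAdd, Nat.card_fun, Nat.card_eq_fintype_card, ZMod.card,
    Nat.card_eq_fintype_card, Fintype.card_fin]

theorem goodSub_wreath (hm : 0 < m) {W : Subgroup (Perm (Fin m))} (hW : GoodSub p W) :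
    GoodSub p (wreath p m W) := by
  obtain ⟨h1, h2, h3⟩ := hW
  have htop : ∀ σ ∈ W, topHom p m σ ∈ Subgroup.closure
      {x | x ∈ wreath p m W ∧ x ^ p = 1} := by
    intro σ hσ
    have h4 := Subgroup.mem_map_of_mem (topHom p m) (h2 hσ)
    rw [MonoidHom.map_closure] at h4
    refine Subgroup.closure_mono ?_ h4
    rintro _ ⟨w, ⟨hw, hwp⟩, rfl⟩
    exact ⟨⟨1, w, hw, by simp⟩, by rw [← map_pow, hwp, map_one]⟩
  have hbase : ∀ f, baseHom p m f ∈ wreath p m W := fun f => ⟨f, 1, one_mem W, by simp⟩
  have hall : wreath p m W ≤ Subgroup.closure {x | x ∈ wreath p m W ∧ x ^ p = 1} := by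
    rintro _ ⟨f, σ, hσ, rfl⟩
    exact mul_mem (Subgroup.subset_closure ⟨hbase f, baseHom_pow p m f⟩) (htop σ hσ)
  refine ⟨?_, hall, ?_⟩
  · rw [card_wreath, h1, Fintype.card_prod, ZMod.card, Fintype.card_fin,
      mul_comm m p, Nat.factorization_factorial_mul hp.out, pow_add, mul_comm]
  by_cases hp2 : p = 2
  swap
  · refine inf_le_left.trans (hall.trans (Subgroup.closure_mono ?_))
    rintro x ⟨hx, hxp⟩
    exact ⟨hx, Perm.mem_alternatingGroup.mpr (sign_eq_one_of_pow p hp2 hxp), hxp⟩
  subst hp2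
  have htope : ∀ σ, topHom 2 m σ ∈ alternatingGroup (Fin m × ZMod 2) := fun σ => by
    rw [Perm.mem_alternatingGroup, sign_topHom, Int.units_sq]
  rintro _ ⟨⟨f, σ, hσ, rfl⟩, he⟩
  refine mul_mem ?_ ?_
  · have hfe : baseHom 2 m f ∈ alternatingGroup (Fin m × ZMod 2) :=
      ((alternatingGroup _).mul_mem_cancel_right (htope σ)).mp he
    let i0 : Fin m := ⟨0, hm⟩
    let e : Fin m → (Fin m → ZMod 2) := fun i => Pi.single i 1 + Pi.single i0 1
    have hsgn : ∀ g : Fin m → ZMod 2, Perm.sign (baseHom 2 m (Multiplicative.ofAdd g)) =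
        ∏ i, if g i = 0 then 1 else -1 := by
      intro g
      show Perm.sign (Equiv.prodCongrRight fun i => Equiv.addRight (g i)) = _
      rw [Perm.sign_prodCongrRight]
      refine Finset.prod_congr rfl fun i _ => ?_
      generalize g i = a
      revert a
      decide
    have hphi : ∀ g : Fin m → ZMod 2, (∏ i, (if g i = 0 then (1 : ℤˣ) else -1)) =
        if (∑ i, g i) = 0 then 1 else -1 := by
      intro g
      induction (Finset.univ : Finset (Fin m)) using Finset.induction_on with
      | empty => simp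
      | insert a s ha ih =>
        rw [Finset.prod_insert ha, Finset.sum_insert ha, ih]
        generalize g a = x
        generalize (∑ i ∈ s, g i) = y
        revert x y
        decide
    have hmem : ∀ i, baseHom 2 m (Multiplicative.ofAdd (e i)) ∈
        {x | x ∈ wreath 2 m W ∧ x ∈ alternatingGroup (Fin m × ZMod 2) ∧ x ^ 2 = 1} := by
      intro i
      refine ⟨hbase _, ?_, baseHom_pow 2 m _⟩
      rw [Perm.mem_alternatingGroup, hsgn, hphi, if_pos]
      simp only [e, Pi.add_apply, Finset.sum_add_distrib, Finset.sum_pi_single',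
        Finset.mem_univ, if_true]
      decide
    have hsum : (∑ i, f.toAdd i) = 0 := by
      by_contra h0
      have := Perm.mem_alternatingGroup.mp hfe
      rw [← ofAdd_toAdd f, hsgn, hphi, if_neg h0] at this
      exact absurd this (by decide)
    have hdec : f = ∏ i, Multiplicative.ofAdd (e i) ^ (f.toAdd i).val := by
      apply Multiplicative.toAdd.injective
      ext k
      simp only [toAdd_prod, toAdd_pow, toAdd_ofAdd, Finset.sum_apply, Pi.smul_apply, e,
        Pi.add_apply, nsmul_eq_mul, Pi.mul_apply, Pi.natCast_apply, ZMod.natCast_zmod_val, mul_add,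
        Finset.sum_add_distrib]
      rw [← Finset.sum_mul, hsum, zero_mul, add_zero]
      simp [Pi.single_apply]
    rw [hdec]
    suffices h5 : ∏ i, Multiplicative.ofAdd (e i) ^ (f.toAdd i).val ∈
        (Subgroup.closure {x | x ∈ wreath 2 m W ∧ x ∈ alternatingGroup (Fin m × ZMod 2) ∧
          x ^ 2 = 1}).comap (baseHom 2 m) from h5
    refine Subgroup.prod_mem _ fun i _ => ?_
    rw [Subgroup.mem_comap, map_pow]
    exact pow_mem (Subgroup.subset_closure (hmem i)) _
  · have h4 := Subgroup.mem_map_of_mem (topHom 2 m) (h2 hσ)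
    rw [MonoidHom.map_closure] at h4
    refine Subgroup.closure_mono ?_ h4
    rintro _ ⟨w, ⟨hw, hwp⟩, rfl⟩
    exact ⟨⟨1, w, hw, by simp⟩, htope w, by rw [← map_pow, hwp, map_one]⟩

end Wreath

theorem exists_goodSub : ∀ n : ℕ, ∃ W : Subgroup (Perm (Fin n)), GoodSub p W := by
  intro n
  induction n using Nat.strong_induction_on with
  | _ n ih =>
    rcases Nat.eq_zero_or_pos n with rfl | hn
    · refine ⟨⊥, by simp, bot_le, ?_⟩
      rw [bot_inf_eq]
      exact bot_le
    by_cases hd : p ∣ n
    · obtain ⟨m, rfl⟩ := hd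
      have hm : 0 < m := Nat.pos_of_mul_pos_left hn
      have hlt : m < p * m := lt_mul_of_one_lt_left hm hp.out.one_lt
      obtain ⟨W, hW⟩ := ih m hlt
      have e : Fin m × ZMod p ≃ Fin (p * m) :=
        Fintype.equivFinOfCardEq (by simp [mul_comm])
      refine ⟨_, goodSub_map p (Equiv.permCongrHom e).toMonoidHom
        (Equiv.permCongrHom e).injective (fun x => Perm.sign_permCongr e x) ?_
        (goodSub_wreath p m hm hW)⟩
      simp [mul_comm]
    · obtain ⟨k, rfl⟩ := Nat.exists_eq_succ_of_ne_zero hn.ne'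
      obtain ⟨W, hW⟩ := ih k (Nat.lt_succ_self k)
      refine ⟨_, goodSub_map p (Equiv.Perm.extendDomainHom (finSuccAboveEquiv (Fin.last k)))
        (Equiv.Perm.extendDomainHom_injective _) (fun x => Perm.sign_extendDomain x _) ?_ hW⟩
      simp only [Fintype.card_fin]
      rw [Nat.factorial_succ, Nat.factorization_mul (Nat.succ_ne_zero k) (Nat.factorial_ne_zero k),
        Finsupp.add_apply, Nat.factorization_eq_zero_of_not_dvd hd, zero_add]

/-- Push forward along an equivalence: if a subgroup `W` is generated by its elements of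
exponent `p`, then the `p`th power of each element of `W` lies in the derived subgroup. -/
theorem pow_mem_commutator {G : Type*} [Group G] {W : Subgroup G}
    (hW : W ≤ Subgroup.closure {x | x ∈ W ∧ x ^ p = 1}) (w : W) : w ^ p ∈ commutator W := by
  have h : ∀ y, y ∈ Subgroup.closure {x | x ∈ W ∧ x ^ p = 1} → ∀ hy : y ∈ W,
      Abelianization.of (⟨y, hy⟩ : W) ^ p = 1 := by
    intro y hy
    suffices h2 : ∃ hy : y ∈ W, Abelianization.of (⟨y, hy⟩ : W) ^ p = 1 by
      intro _; exact h2.2
    induction hy using Subgroup.closure_induction with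
    | mem x hx =>
      refine ⟨hx.1, ?_⟩
      rw [← map_pow]
      have : (⟨x, hx.1⟩ : W) ^ p = 1 := Subtype.ext hx.2
      rw [this, map_one]
    | one => exact ⟨one_mem W, by
        rw [show (⟨1, one_mem W⟩ : W) = 1 from rfl, map_one, one_pow]⟩
    | mul a b _ _ ha hb =>
      refine ⟨mul_mem ha.1 hb.1, ?_⟩
      rw [show (⟨a * b, mul_mem ha.1 hb.1⟩ : W) = ⟨a, ha.1⟩ * ⟨b, hb.1⟩ from rfl, map_mul,
        mul_pow, ha.2, hb.2, mul_one]
    | inv a _ ha =>
      refine ⟨inv_mem ha.1, ?_⟩
      rw [show (⟨a⁻¹, inv_mem ha.1⟩ : W) = (⟨a, ha.1⟩ : W)⁻¹ from rfl, map_inv, inv_pow, ha.2,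
        inv_one]
  have h2 := h w (hW w.2) w.2
  rw [← map_pow] at h2
  rw [← Abelianization.ker_of, MonoidHom.mem_ker]
  exact h2

theorem sylow_pow_mem_commutator {G : Type*} [Group G] [Finite G] {W : Sylow p G}
    (hW : (W : Subgroup G) ≤ Subgroup.closure {x | x ∈ (W : Subgroup G) ∧ x ^ p = 1})
    (P : Sylow p G) (x : (P : Subgroup G)) : x ^ p ∈ commutator (P : Subgroup G) := by
  let e : (W : Subgroup G) ≃* (P : Subgroup G) := W.equiv P
  obtain ⟨w, rfl⟩ := e.surjective x
  rw [← map_pow]
  have h := Subgroup.mem_map_of_mem e.toMonoidHom (pow_mem_commutator p hW w)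
  rw [commutator_def, Subgroup.map_commutator, Subgroup.map_top_of_surjective _ e.surjective] at h
  exact h

theorem perm_sylow (n : ℕ) (P : Sylow p (Perm (Fin n))) (x : (P : Subgroup (Perm (Fin n)))) :
    x ^ p ∈ commutator (P : Subgroup (Perm (Fin n))) := by
  obtain ⟨W, h1, h2, -⟩ := exists_goodSub p n
  refine sylow_pow_mem_commutator p (W := Sylow.ofCard W ?_) h2 P x
  rw [h1, Nat.card_perm, Nat.card_eq_fintype_card]

theorem alt_sylow (n : ℕ) (Q : Sylow p (alternatingGroup (Fin n)))
    (x : (Q : Subgroup (alternatingGroup (Fin n)))) :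
    x ^ p ∈ commutator (Q : Subgroup (alternatingGroup (Fin n))) := by
  obtain ⟨W, h1, -, h3⟩ := exists_goodSub p n
  let A := alternatingGroup (Fin n)
  haveI hAn : A.Normal := inferInstance
  have hWp : IsPGroup p W := IsPGroup.of_card h1
  have hWidx : ¬ p ∣ W.index := by
    let S : Sylow p (Perm (Fin n)) := Sylow.ofCard W (by rw [h1, Nat.card_perm,
      Nat.card_eq_fintype_card])
    exact S.not_dvd_index
  have hidx : ¬ p ∣ (W.subgroupOf A).index := by
    intro hd
    apply hWidx
    refine hd.trans ?_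
    obtain ⟨c, hc⟩ := Subgroup.relIndex_dvd_index_of_normal A W
    have e1 : (W ⊓ A).relIndex W * W.index = (W ⊓ A).index :=
      Subgroup.relIndex_mul_index inf_le_left
    have e2 : (W ⊓ A).relIndex A * A.index = (W ⊓ A).index :=
      Subgroup.relIndex_mul_index inf_le_right
    rw [Subgroup.inf_relIndex_left] at e1
    rw [Subgroup.inf_relIndex_right] at e2
    have hne : A.relIndex W ≠ 0 := Subgroup.index_ne_zero_of_finite
    refine ⟨c, Nat.eq_of_mul_eq_mul_left (Nat.pos_of_ne_zero hne) ?_⟩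
    show A.relIndex W * W.index = A.relIndex W * (W.relIndex A * c)
    rw [e1, ← e2, hc]
    ring
  let T : Sylow p A := (hWp.comap_of_injective A.subtype A.subtype_injective).toSylow hidx
  refine sylow_pow_mem_commutator p (W := T) ?_ Q x
  intro a ha
  have ha' : (a : Perm (Fin n)) ∈ Subgroup.closure
      {y | y ∈ W ∧ y ∈ A ∧ y ^ p = 1} := h3 ⟨ha, a.2⟩
  have hsub : Subgroup.closure {y | y ∈ W ∧ y ∈ A ∧ y ^ p = 1} ≤
      (Subgroup.closure {y : A | y ∈ (T : Subgroup A) ∧ y ^ p = 1}).map A.subtype := by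
    rw [MonoidHom.map_closure]
    refine Subgroup.closure_mono ?_
    rintro y ⟨hyW, hyA, hyp⟩
    exact ⟨⟨y, hyA⟩, ⟨hyW, Subtype.ext hyp⟩, rfl⟩
  obtain ⟨b, hb, hba⟩ := hsub ha'
  exact (A.subtype_injective hba) ▸ hb

end Cfsg.Agent.Lib.SymSylow.Generated
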