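import Cfsg.Agent.Lib.SymSylow.Basic
import Mathlib

set_option autoImplicit false

open Equiv Equiv.Perm Subgroup

namespace Cfsg.Agent.Lib.SymSylow.Alternating

open Cfsg.Agent.Lib.SymSylow.Basic

/-- A self-normalising `p`-subgroup of a finite group is a Sylow subgroup. -/
theorem exists_sylow_eq {G : Type*} [Group G] [Finite G] {p : ℕ} [Fact p.Prime] {S : Subgroup G}
    (hS : IsPGroup p ↥S) (hN : normalizer (S : Set G) = S) : ∃ P : Sylow p G, (P : Subgroup G) = S := by
  obtain ⟨P, hP⟩ := hS.exists_le_sylow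
  refine ⟨P, ?_⟩
  rcases hP.lt_or_eq with hlt | heq
  · exfalso
    have : Group.IsNilpotent ↥(P : Subgroup G) := P.isPGroup'.isNilpotent
    have hlt' : S.subgroupOf (P : Subgroup G) < ⊤ := by
      rw [lt_top_iff_ne_top, Ne, Subgroup.subgroupOf_eq_top]
      exact not_le_of_gt hlt
    have h2 := Group.normalizerCondition_of_isNilpotent (S.subgroupOf (P : Subgroup G)) hlt'
    obtain ⟨x, hx, hx'⟩ := SetLike.exists_of_lt h2
    apply hx'
    rw [Subgroup.mem_subgroupOf]
    rw [← hN, Subgroup.mem_normalizer_iff]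
    intro h
    rw [Subgroup.mem_normalizer_iff] at hx
    constructor
    · intro hh
      have := (hx ⟨h, hP hh⟩).mp hh
      exact this
    · intro hh
      have hhP : h ∈ (P : Subgroup G) := by
        have e : h = (x : G)⁻¹ * ((x : G) * h * (x : G)⁻¹) * x := by group
        rw [e]
        exact mul_mem (mul_mem (inv_mem x.2) (hP hh)) x.2
      exact (hx ⟨h, hhP⟩).mpr hh
  · exact heq.symm

/-- If one Sylow subgroup is self-normalising, all are. -/
theorem sylow_normalizer_eq {G : Type*} [Group G] [Finite G] {p : ℕ} [Fact p.Prime]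
    (P Q : Sylow p G) (hP : normalizer ((P : Subgroup G) : Set G) = P) :
    normalizer ((Q : Subgroup G) : Set G) = Q := by
  obtain ⟨g, rfl⟩ := MulAction.exists_smul_eq G P Q
  refine le_antisymm (fun x hx => ?_) le_normalizer
  replace hx : x • (g • P) = g • P := Sylow.smul_eq_iff_mem_normalizer.mpr hx
  have h2 : g⁻¹ * x * g ∈ (P : Subgroup G) := by
    rw [← hP]
    refine Sylow.smul_eq_iff_mem_normalizer.mp ?_
    rw [mul_smul, mul_smul, hx, inv_smul_smul]
  rw [Sylow.coe_subgroup_smul]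
  exact ⟨_, h2, by simp [MulDistribMulAction.toMonoidEnd_apply]; group⟩

/-- The Sylow 2-subgroups of `Sym n` are self-normalising. -/
theorem perm_sylow_normalizer (n : ℕ) (P : Sylow 2 (Perm (Fin n))) :
    normalizer ((P : Subgroup (Perm (Fin n))) : Set (Perm (Fin n))) = P := by
  have hN : normalizer ((dyadic n : Subgroup _) : Set (Perm (Fin n))) = dyadic n :=
    le_antisymm (fun x hx => mem_dyadic_of_normalizes n x fun σ hσ => by
      have := (Subgroup.mem_normalizer_iff.mp (inv_mem hx) σ).mp hσ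
      simpa using this) le_normalizer
  obtain ⟨Q, hQ⟩ := exists_sylow_eq (isPGroup_dyadic n) hN
  exact sylow_normalizer_eq Q P (by rw [hQ]; exact hN)

/-- The dyadic Sylow 2-subgroup of `Alt n`. -/
def dyadicAlt (n : ℕ) : Subgroup ↥(alternatingGroup (Fin n)) :=
  (dyadic n).subgroupOf (alternatingGroup (Fin n))

theorem isPGroup_dyadicAlt (n : ℕ) : IsPGroup 2 ↥(dyadicAlt n) :=
  (isPGroup_dyadic n).comap_of_injective _ Subtype.val_injective

theorem dyadicAlt_normalizer {n : ℕ} (hn : 6 ≤ n) :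
    normalizer ((dyadicAlt n : Subgroup _) : Set ↥(alternatingGroup (Fin n))) = dyadicAlt n := by
  refine le_antisymm (fun x hx => ?_) le_normalizer
  refine Subgroup.mem_subgroupOf.mpr (mem_dyadic_of_normalizes_even hn _ fun σ hσ hs => ?_)
  have := (Subgroup.mem_normalizer_iff.mp (inv_mem hx)
    ⟨σ, Equiv.Perm.mem_alternatingGroup.mpr hs⟩).mp (Subgroup.mem_subgroupOf.mpr hσ)
  rw [dyadicAlt, Subgroup.mem_subgroupOf] at this
  simpa using this

/-- The Sylow 2-subgroups of `Alt n` are self-normalising for `n ≥ 6`. -/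
theorem alternating_sylow_normalizer {n : ℕ} (hn : 6 ≤ n)
    (P : Sylow 2 ↥(alternatingGroup (Fin n))) :
    normalizer ((P : Subgroup ↥(alternatingGroup (Fin n))) : Set ↥(alternatingGroup (Fin n))) = P := by
  obtain ⟨Q, hQ⟩ := exists_sylow_eq (isPGroup_dyadicAlt n) (dyadicAlt_normalizer hn)
  exact sylow_normalizer_eq Q P (by rw [hQ]; exact dyadicAlt_normalizer hn)

/-- A subgroup of index prime to `p` contains a Sylow `p`-subgroup. -/
theorem exists_sylow_le {G : Type*} [Group G] [Finite G] {p : ℕ} [Fact p.Prime] {H : Subgroup G}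
    (hH : ¬ p ∣ H.index) : ∃ P : Sylow p G, (P : Subgroup G) ≤ H := by
  obtain ⟨P⟩ : Nonempty (Sylow p G) := inferInstance
  have hcard : ¬ p ∣ Nat.card (G ⧸ H) := hH
  obtain ⟨c, hc⟩ := P.isPGroup'.nonempty_fixed_point_of_prime_not_dvd_card (α := G ⧸ H) hcard
  obtain ⟨g, rfl⟩ := QuotientGroup.mk_surjective c
  refine ⟨g⁻¹ • P, ?_⟩
  rw [Sylow.coe_subgroup_smul]
  rintro _ ⟨y, hy, rfl⟩
  have h := hc ⟨y, hy⟩
  change (QuotientGroup.mk (y * g) : G ⧸ H) = QuotientGroup.mk g at h
  rw [QuotientGroup.eq] at h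
  have := H.inv_mem h
  simpa [MulDistribMulAction.toMonoidEnd_apply, mul_assoc] using this

end Cfsg.Agent.Lib.SymSylow.Alternating
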