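import Cfsg.Prelude.Def_HallClasses
import Mathlib

set_option autoImplicit false

open Subgroup

namespace Cfsg.Agent.Lib.SymSylow.Pronormal

variable {G : Type*} [Group G]

/-- A subgroup containing a Sylow subgroup whose normaliser normalises it is pronormal. -/
theorem isPronormal_of_normalizer_le [Finite G] {p : ℕ} [Fact p.Prime] (P : Sylow p G)
    {H : Subgroup G} (hPH : (P : Subgroup G) ≤ H)
    (hN : normalizer ((P : Subgroup G) : Set G) ≤ normalizer (H : Set G)) :
    Cfsg.IsPronormal H := by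
  intro g
  set K := H ⊔ H.map (MulAut.conj g).toMonoidHom with hK
  have h1 : (P : Subgroup G) ≤ K := hPH.trans le_sup_left
  have h2 : ((g • P : Sylow p G) : Subgroup G) ≤ K := by
    refine le_trans ?_ (le_sup_right (a := H))
    rw [Sylow.coe_subgroup_smul]
    exact Subgroup.map_mono hPH
  obtain ⟨x, hx⟩ := MulAction.exists_smul_eq ↥K (P.subtype h1) ((g • P).subtype h2)
  have hxP : ((x : G) • P : Sylow p G) = g • P := by
    have hle : (((x : G) • P : Sylow p G) : Subgroup G) ≤ K := by
      rw [Sylow.coe_subgroup_smul]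
      rintro _ ⟨y, hy, rfl⟩
      exact K.mul_mem (K.mul_mem x.2 (h1 hy)) (K.inv_mem x.2)
    refine Sylow.subtype_injective (hP := hle) (hQ := h2) ?_
    rw [← hx, Sylow.smul_subtype]
    rfl
  have hn : (x : G)⁻¹ * g ∈ normalizer (H : Set G) := by
    refine hN ?_
    exact Sylow.smul_eq_iff_mem_normalizer.mp (by rw [mul_smul, ← hxP, inv_smul_smul])
  refine ⟨x, x.2, ?_⟩
  have hg : g = (x : G) * ((x : G)⁻¹ * g) := by group
  ext y
  simp only [Subgroup.mem_map, MulEquiv.coe_toMonoidHom, MulAut.conj_apply]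
  have hn' := Subgroup.mem_normalizer_iff.mp hn
  constructor
  · rintro ⟨h, hh, rfl⟩
    exact ⟨_, (hn' h).mp hh, by group⟩
  · rintro ⟨h, hh, rfl⟩
    refine ⟨((x : G)⁻¹ * g)⁻¹ * h * ((x : G)⁻¹ * g), (hn' _).mpr ?_, by group⟩
    have e : (x : G)⁻¹ * g * (((x : G)⁻¹ * g)⁻¹ * h * ((x : G)⁻¹ * g)) * ((x : G)⁻¹ * g)⁻¹ = h := by
      group
    rw [e]
    exact hh

/-- A maximal subgroup is pronormal. -/
theorem isPronormal_of_isCoatom {H : Subgroup G} (hH : IsCoatom H) : Cfsg.IsPronormal H := by
  intro g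
  by_cases h : H ⊔ H.map (MulAut.conj g).toMonoidHom = ⊤
  · exact ⟨g, by rw [h]; exact Subgroup.mem_top g, rfl⟩
  · have hle : H ≤ H ⊔ H.map (MulAut.conj g).toMonoidHom := le_sup_left
    have heq : H ⊔ H.map (MulAut.conj g).toMonoidHom = H := by
      rcases hle.lt_or_eq with hlt | heq
      · exact absurd (hH.2 _ hlt) h
      · exact heq.symm
    have hsub : H.map (MulAut.conj g).toMonoidHom ≤ H := by
      calc _ ≤ _ := le_sup_right (a := H)
        _ = H := heq
    refine ⟨1, one_mem _, ?_⟩
    have : H.map (MulAut.conj g).toMonoidHom = H := by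
      rcases (hsub.lt_or_eq) with hlt | heq'
      · exfalso
        have hcoat : IsCoatom (H.map (MulAut.conj g).toMonoidHom) := by
          have := (OrderIso.isCoatom_iff (MulEquiv.mapSubgroup (MulAut.conj g)) H).mpr hH
          exact this
        exact hH.1 (hcoat.2 H hlt)
      · exact heq'
    rw [this]
    ext y
    simp

end Cfsg.Agent.Lib.SymSylow.Pronormal
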