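import Mathlib

set_option autoImplicit false

open Equiv Equiv.Perm

namespace Cfsg.Agent.Lib.SymSylow.Basic

/-- The pairs `{2t, 2t+1}` are preserved. -/
def PresPairs {n : ℕ} (σ : Perm (Fin n)) : Prop :=
  ∀ i j : Fin n, (i.val / 2 = j.val / 2 ↔ (σ i).val / 2 = (σ j).val / 2)

theorem presPairs_one {n : ℕ} : PresPairs (1 : Perm (Fin n)) := fun _ _ => Iff.rfl

theorem presPairs_inv {n : ℕ} {σ : Perm (Fin n)} (h : PresPairs σ) : PresPairs σ⁻¹ := by
  intro i j
  have := h (σ⁻¹ i) (σ⁻¹ j)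
  simpa using this.symm

theorem presPairs_mul {n : ℕ} {σ τ : Perm (Fin n)} (h : PresPairs σ) (h' : PresPairs τ) :
    PresPairs (σ * τ) := fun i j => (h' i j).trans (h (τ i) (τ j))

theorem lt_half_iff {n : ℕ} (i : Fin n) :
    i.val / 2 < n / 2 ↔ ∃ j : Fin n, j ≠ i ∧ j.val / 2 = i.val / 2 := by
  constructor
  · intro h
    refine ⟨⟨2 * (i.val / 2) + (1 - i.val % 2), by omega⟩, ?_, by dsimp only; omega⟩
    intro e
    have := congrArg Fin.val e
    dsimp only at this
    omega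
  · rintro ⟨j, hne, hj⟩
    have := j.isLt
    have := i.isLt
    have : j.val ≠ i.val := fun e => hne (Fin.ext e)
    omega

theorem presPairs_lt_half {n : ℕ} {σ : Perm (Fin n)} (h : PresPairs σ) (i : Fin n) :
    (σ i).val / 2 < n / 2 ↔ i.val / 2 < n / 2 := by
  rw [lt_half_iff, lt_half_iff]
  constructor
  · rintro ⟨j, hne, hj⟩
    refine ⟨σ⁻¹ j, ?_, ?_⟩
    · intro e
      exact hne (by rw [← e]; simp)
    · have := h (σ⁻¹ j) i
      simp at this
      exact this.mpr hj
  · rintro ⟨j, hne, hj⟩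
    exact ⟨σ j, σ.injective.ne hne, (h j i).mp hj⟩

/-- The first element of the pair `t`. -/
def rep {n : ℕ} (t : Fin (n / 2)) : Fin n := ⟨2 * t.val, by omega⟩

/-- The permutation of the full pairs induced by `σ`, as a function. -/
def barFun {n : ℕ} (σ : Perm (Fin n)) (h : PresPairs σ) (t : Fin (n / 2)) : Fin (n / 2) :=
  ⟨(σ (rep t)).val / 2, (presPairs_lt_half h _).mpr (by simp [rep])⟩

/-- The permutation of the full pairs induced by `σ`. -/
def bar {n : ℕ} (σ : Perm (Fin n)) (h : PresPairs σ) : Perm (Fin (n / 2)) where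
  toFun := barFun σ h
  invFun := barFun σ⁻¹ (presPairs_inv h)
  left_inv t := by
    have hh := presPairs_inv h (rep (barFun σ h t)) (σ (rep t))
    rw [show σ⁻¹ (σ (rep t)) = rep t from σ.symm_apply_apply _] at hh
    have h2 : (rep (barFun σ h t)).val / 2 = (σ (rep t)).val / 2 := by simp [rep, barFun]
    ext
    simp only [barFun] at *
    rw [hh.mp h2]
    simp [rep]
  right_inv t := by
    have hh := h (rep (barFun σ⁻¹ (presPairs_inv h) t)) (σ⁻¹ (rep t))
    rw [show σ (σ⁻¹ (rep t)) = rep t from σ.apply_symm_apply _] at hh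
    have h2 : (rep (barFun σ⁻¹ (presPairs_inv h) t)).val / 2 = (σ⁻¹ (rep t)).val / 2 := by
      simp [rep, barFun]
    ext
    simp only [barFun] at *
    rw [hh.mp h2]
    simp [rep]

theorem bar_apply {n : ℕ} {σ : Perm (Fin n)} (h : PresPairs σ) (t : Fin (n / 2)) (i : Fin n)
    (hi : i.val / 2 = t.val) : (bar σ h t).val = (σ i).val / 2 := by
  show (σ (rep t)).val / 2 = _
  exact (h _ _).mp (by simp [rep, hi])

theorem bar_mul {n : ℕ} {σ τ : Perm (Fin n)} (h : PresPairs σ) (h' : PresPairs τ) :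
    bar (σ * τ) (presPairs_mul h h') = bar σ h * bar τ h' := by
  ext t
  rw [bar_apply _ t (rep t) (by simp [rep]), Equiv.Perm.mul_apply, Equiv.Perm.mul_apply,
    bar_apply h (bar τ h' t) (τ (rep t)) (bar_apply h' t (rep t) (by simp [rep])).symm]

theorem bar_one {n : ℕ} : bar (1 : Perm (Fin n)) presPairs_one = 1 := by
  ext t
  rw [bar_apply _ t (rep t) (by simp [rep])]
  simp [rep]

theorem bar_congr {n : ℕ} {σ τ : Perm (Fin n)} (e : σ = τ) (h : PresPairs σ) (h' : PresPairs τ) :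
    bar σ h = bar τ h' := by
  subst e
  rfl

theorem bar_inv {n : ℕ} {σ : Perm (Fin n)} (h : PresPairs σ) :
    bar σ⁻¹ (presPairs_inv h) = (bar σ h)⁻¹ := by
  rw [eq_inv_iff_mul_eq_one, ← bar_mul, bar_congr (inv_mul_cancel σ) _ presPairs_one, bar_one]

/-- The permutations preserving the pairs. -/
def pairs (n : ℕ) : Subgroup (Perm (Fin n)) where
  carrier := {σ | PresPairs σ}
  one_mem' := presPairs_one
  mul_mem' := presPairs_mul
  inv_mem' := presPairs_inv

/-- The action on the full pairs. -/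
def barHom (n : ℕ) : ↥(pairs n) →* Perm (Fin (n / 2)) where
  toFun σ := bar σ.1 σ.2
  map_one' := bar_one
  map_mul' σ τ := bar_mul σ.2 τ.2

/-- The dyadic Sylow 2-subgroup of `Sym n`: the automorphisms of the binary tree on `Fin n`. -/
def dyadic (n : ℕ) : Subgroup (Perm (Fin n)) :=
  if hn : n < 2 then ⊤
  else ((dyadic (n / 2)).comap (barHom n)).map (pairs n).subtype
termination_by n
decreasing_by omega

/-- Membership in the dyadic subgroup. -/
theorem mem_dyadic_iff {n : ℕ} {σ : Perm (Fin n)} :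
    σ ∈ dyadic n ↔ ∃ h : PresPairs σ, bar σ h ∈ dyadic (n / 2) := by
  by_cases hn : n < 2
  · have hp : PresPairs σ := by
      intro i j
      have := i.isLt
      have := j.isLt
      have := (σ i).isLt
      have := (σ j).isLt
      omega
    rw [dyadic, dif_pos hn]
    refine iff_of_true (Subgroup.mem_top _) ⟨hp, ?_⟩
    rw [dyadic, dif_pos (by omega)]
    exact Subgroup.mem_top _
  · rw [dyadic, dif_neg hn]
    constructor
    · rintro ⟨⟨τ, hτ⟩, h, rfl⟩
      exact ⟨hτ, h⟩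
    · rintro ⟨h, h'⟩
      exact ⟨⟨σ, h⟩, h', rfl⟩

theorem presPairs_of_mem {n : ℕ} {σ : Perm (Fin n)} (h : σ ∈ dyadic n) : PresPairs σ :=
  (mem_dyadic_iff.mp h).1

theorem bar_mem {n : ℕ} {σ : Perm (Fin n)} (h : σ ∈ dyadic n) (hp : PresPairs σ) :
    bar σ hp ∈ dyadic (n / 2) :=
  (mem_dyadic_iff.mp h).2

theorem apply_last {n : ℕ} {σ : Perm (Fin n)} (h : PresPairs σ) (i : Fin n)
    (hi : ¬ i.val / 2 < n / 2) : σ i = i := by
  have h2 : ¬ (σ i).val / 2 < n / 2 := fun e => hi ((presPairs_lt_half h i).mp e)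
  have := i.isLt
  have := (σ i).isLt
  ext
  omega

theorem partner_eq {n : ℕ} {i j k : Fin n} (hj : j.val / 2 = i.val / 2) (hk : k.val / 2 = i.val / 2)
    (hj' : j ≠ i) (hk' : k ≠ i) : j = k := by
  have : j.val ≠ i.val := fun e => hj' (Fin.ext e)
  have : k.val ≠ i.val := fun e => hk' (Fin.ext e)
  ext
  omega

theorem sq_eq_one_of_bar_eq_one {n : ℕ} {σ : Perm (Fin n)} (h : PresPairs σ) (hb : bar σ h = 1) :
    σ ^ 2 = 1 := by
  ext i
  rw [pow_two, Equiv.Perm.mul_apply, Equiv.Perm.one_apply]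
  by_cases hi : i.val / 2 < n / 2
  · have h1 : (σ i).val / 2 = i.val / 2 := by
      rw [← bar_apply h ⟨_, hi⟩ i rfl, hb]
      rfl
    by_cases e : σ i = i
    · rw [e, e]
    · have h2 : (σ (σ i)).val / 2 = (σ i).val / 2 := (h (σ i) i).mp h1 |>.trans rfl
      have e2 : σ (σ i) ≠ σ i := σ.injective.ne e
      rw [partner_eq h2 h1.symm e2 (Ne.symm e)]
  · rw [apply_last h i hi, apply_last h i hi]

/-- The dyadic subgroup is a 2-group. -/
theorem isPGroup_dyadic : ∀ n : ℕ, IsPGroup 2 ↥(dyadic n) := by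
  intro n
  induction n using Nat.strong_induction_on with
  | _ n ih =>
    rintro ⟨σ, hσ⟩
    by_cases hn : n < 2
    · refine ⟨0, Subtype.ext ?_⟩
      have : Subsingleton (Fin n) := Fin.subsingleton_iff_le_one.mpr (by omega)
      exact Subsingleton.elim _ _
    · have hp := presPairs_of_mem hσ
      obtain ⟨a, ha⟩ := ih (n / 2) (by omega) ⟨_, bar_mem hσ hp⟩
      have ha' : barHom n (⟨σ, hp⟩ : ↥(pairs n)) ^ 2 ^ a = 1 := congrArg Subtype.val ha
      rw [← map_pow] at ha'
      refine ⟨a + 1, Subtype.ext ?_⟩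
      show σ ^ 2 ^ (a + 1) = 1
      rw [pow_succ, pow_mul]
      exact sq_eq_one_of_bar_eq_one (pow_mem (show σ ∈ pairs n from hp) (2 ^ a)) ha'

/-- `Fin (n/2) × Fin 2` is the set of points in full pairs. -/
def pairEquiv (n : ℕ) : Fin (n / 2) × Fin 2 ≃ {i : Fin n // i.val / 2 < n / 2} where
  toFun x := ⟨⟨2 * x.1.val + x.2.val, by omega⟩, by dsimp only; omega⟩
  invFun i := (⟨i.1.val / 2, i.2⟩, ⟨i.1.val % 2, by omega⟩)
  left_inv x := by
    ext <;> dsimp only <;> omega
  right_inv i := by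
    ext
    dsimp only
    omega

/-- A lift of a permutation of the full pairs. -/
def lift {n : ℕ} (τ : Perm (Fin (n / 2))) : Perm (Fin n) :=
  Equiv.Perm.extendDomain (Equiv.prodCongrLeft fun _ : Fin 2 => τ) (pairEquiv n)

theorem sign_lift {n : ℕ} (τ : Perm (Fin (n / 2))) : Equiv.Perm.sign (lift τ) = 1 := by
  rw [lift, Equiv.Perm.sign_extendDomain, Equiv.Perm.sign_prodCongrLeft, Fin.prod_univ_two,
    Int.units_mul_self]

theorem lift_div {n : ℕ} (τ : Perm (Fin (n / 2))) (i : Fin n) (hi : i.val / 2 < n / 2) :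
    (lift τ i).val / 2 = (τ ⟨i.val / 2, hi⟩).val := by
  rw [lift, Equiv.Perm.extendDomain_apply_subtype _ (pairEquiv n) (b := i) hi]
  simp only [pairEquiv, Equiv.coe_fn_mk, Equiv.coe_fn_symm_mk, Equiv.prodCongrLeft_apply]
  omega

theorem lift_last {n : ℕ} (τ : Perm (Fin (n / 2))) (i : Fin n) (hi : ¬ i.val / 2 < n / 2) :
    lift τ i = i :=
  Equiv.Perm.extendDomain_apply_not_subtype _ _ hi

theorem presPairs_lift {n : ℕ} (τ : Perm (Fin (n / 2))) : PresPairs (lift τ) := by
  intro i j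
  by_cases hi : i.val / 2 < n / 2 <;> by_cases hj : j.val / 2 < n / 2
  · rw [lift_div τ i hi, lift_div τ j hj, ← Fin.ext_iff, τ.injective.eq_iff, Fin.ext_iff]
  · rw [lift_div τ i hi, lift_last τ j hj]
    have := (τ ⟨_, hi⟩).isLt
    omega
  · rw [lift_last τ i hi, lift_div τ j hj]
    have := (τ ⟨_, hj⟩).isLt
    omega
  · rw [lift_last τ i hi, lift_last τ j hj]

theorem bar_lift {n : ℕ} (τ : Perm (Fin (n / 2))) : bar (lift τ) (presPairs_lift τ) = τ := by
  ext t
  have hr : (rep t).val / 2 = t.val := by simp [rep]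
  have hlt : (rep t).val / 2 < n / 2 := by omega
  rw [bar_apply _ t (rep t) hr, lift_div τ (rep t) hlt]
  congr 2
  exact Fin.ext hr

theorem lift_mem {n : ℕ} {τ : Perm (Fin (n / 2))} (h : τ ∈ dyadic (n / 2)) : lift τ ∈ dyadic n :=
  mem_dyadic_iff.mpr ⟨presPairs_lift τ, by rw [bar_lift]; exact h⟩

theorem swap_mem {n : ℕ} {i j : Fin n} (h : i.val / 2 = j.val / 2) : Equiv.swap i j ∈ dyadic n := by
  have key : ∀ k : Fin n, (Equiv.swap i j k).val / 2 = k.val / 2 := by
    intro k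
    rw [Equiv.swap_apply_def]
    split_ifs with h1 h2
    · rw [h1, h]
    · rw [h2, h]
    · rfl
  have hp : PresPairs (Equiv.swap i j) := fun a b => by rw [key a, key b]
  refine mem_dyadic_iff.mpr ⟨hp, ?_⟩
  have : bar _ hp = 1 := by
    ext t
    rw [bar_apply hp t (rep t) (by simp [rep]), key]
    simp [rep]
  rw [this]
  exact one_mem _

/-- Some element of `H` fixes `i` and moves `j`. -/
theorem mem_dyadic_of_conj {n : ℕ} (H : Subgroup (Perm (Fin n))) (hH : H ≤ dyadic n)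
    (hlift : ∀ τ ∈ dyadic (n / 2), lift τ ∈ H)
    (hmove : ∀ i j : Fin n, j.val / 2 < n / 2 → i.val / 2 ≠ j.val / 2 → ∃ σ ∈ H, σ i = i ∧ σ j ≠ j)
    (hmove' : ∀ j : Fin n, j.val / 2 < n / 2 → ∃ σ ∈ H, σ j ≠ j)
    (ih : ∀ y : Perm (Fin (n / 2)), (∀ τ ∈ dyadic (n / 2), y⁻¹ * τ * y ∈ dyadic (n / 2)) →
      y ∈ dyadic (n / 2))
    (x : Perm (Fin n)) (hx : ∀ σ ∈ H, x⁻¹ * σ * x ∈ H) : x ∈ dyadic n := by
  have pp : ∀ σ ∈ H, PresPairs σ := fun σ hσ => presPairs_of_mem (hH hσ)
  -- points in full pairs go to points in full pairs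
  have full : ∀ i : Fin n, (x i).val / 2 < n / 2 → i.val / 2 < n / 2 := by
    intro i hi
    by_contra h
    obtain ⟨σ, hσ, hm⟩ := hmove' (x i) hi
    apply hm
    have := apply_last (pp _ (hx σ hσ)) i h
    rw [Equiv.Perm.mul_apply, Equiv.Perm.mul_apply, Equiv.Perm.inv_eq_iff_eq] at this
    exact this
  have hcount : ∀ i : Fin n, i.val / 2 < n / 2 → (x i).val / 2 < n / 2 := by
    intro i hi
    by_contra h
    have h' := i.isLt
    have h'' := (x i).isLt
    have hn : x i = ⟨n - 1, by omega⟩ := by ext; dsimp only; omega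
    have := full (x⁻¹ i) (by simpa using hi)
    by_cases hl : (x ⟨n - 1, by omega⟩).val / 2 < n / 2
    · have := full _ hl
      dsimp only at this
      omega
    · have he : x ⟨n - 1, by omega⟩ = x i := by
        rw [hn]
        ext
        have := (x ⟨n - 1, by omega⟩).isLt
        dsimp only
        omega
      have := congrArg Fin.val (x.injective he)
      dsimp only at this
      omega
  have fwd : ∀ i j : Fin n, i.val / 2 = j.val / 2 → (x i).val / 2 = (x j).val / 2 := by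
    intro i j hij
    by_cases e : i = j
    · rw [e]
    · have hi : i.val / 2 < n / 2 := (lt_half_iff i).mpr ⟨j, Ne.symm e, hij.symm⟩
      by_contra hne
      obtain ⟨σ, hσ, hfix, hm⟩ := hmove (x i) (x j) (hcount j (by omega)) hne
      have hp := pp _ (hx σ hσ)
      have h1 : (x⁻¹ * σ * x) i = i := by simp [hfix]
      have h2 : ((x⁻¹ * σ * x) j).val / 2 = i.val / 2 := by
        rw [← (hp i j).mp hij, h1]
      have h3 : (x⁻¹ * σ * x) j = j := by
        refine partner_eq h2 hij.symm ?_ (Ne.symm e)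
        intro e3
        exact e ((x⁻¹ * σ * x).injective (e3.trans h1.symm)).symm
      rw [Equiv.Perm.mul_apply, Equiv.Perm.mul_apply, Equiv.Perm.inv_eq_iff_eq] at h3
      exact hm h3
  have hp : PresPairs x := by
    intro i j
    refine ⟨fwd i j, fun h => ?_⟩
    by_cases e : i = j
    · rw [e]
    · have hxi : (x i).val / 2 < n / 2 :=
        (lt_half_iff _).mpr ⟨x j, x.injective.ne (Ne.symm e), h.symm⟩
      obtain ⟨i', hne, hi'⟩ := (lt_half_iff i).mp (full i hxi)
      have : x i' = x j := partner_eq (fwd _ _ hi') h.symm (x.injective.ne hne)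
        (x.injective.ne (Ne.symm e))
      rw [← x.injective this]
      exact hi'.symm
  refine mem_dyadic_iff.mpr ⟨hp, ih _ fun τ hτ => ?_⟩
  have hc := presPairs_mul (presPairs_mul (presPairs_inv hp) (presPairs_lift τ)) hp
  have hb := bar_mem (hH (hx _ (hlift τ hτ))) hc
  rw [bar_mul (presPairs_mul (presPairs_inv hp) (presPairs_lift τ)) hp,
    bar_mul (presPairs_inv hp) (presPairs_lift τ), bar_inv, bar_lift] at hb
  exact hb

/-- The dyadic subgroup is self-normalising in `Sym n`. -/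
theorem mem_dyadic_of_normalizes : ∀ (n : ℕ) (x : Perm (Fin n)),
    (∀ σ ∈ dyadic n, x⁻¹ * σ * x ∈ dyadic n) → x ∈ dyadic n := by
  intro n
  induction n using Nat.strong_induction_on with
  | _ n ih =>
    intro x hx
    by_cases hn : n < 2
    · rw [dyadic, dif_pos hn]
      exact Subgroup.mem_top _
    · refine mem_dyadic_of_conj (dyadic n) le_rfl (fun τ hτ => lift_mem hτ) ?_ ?_
        (ih (n / 2) (by omega)) x hx
      · intro i j hj hij
        obtain ⟨j', hne, hj'⟩ := (lt_half_iff j).mp hj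
        refine ⟨_, swap_mem hj'.symm, Equiv.swap_apply_of_ne_of_ne ?_ ?_, ?_⟩
        · intro e; exact hij (by rw [e])
        · intro e; exact hij (by rw [e, hj'])
        · rw [Equiv.swap_apply_left]; exact hne
      · intro j hj
        obtain ⟨j', hne, hj'⟩ := (lt_half_iff j).mp hj
        exact ⟨_, swap_mem hj'.symm, by rw [Equiv.swap_apply_left]; exact hne⟩

/-- The even part of the dyadic subgroup is self-normalising in `Sym n` up to the dyadic subgroup. -/
theorem mem_dyadic_of_normalizes_even {n : ℕ} (hn : 6 ≤ n) (x : Perm (Fin n))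
    (hx : ∀ σ ∈ dyadic n, Equiv.Perm.sign σ = 1 → x⁻¹ * σ * x ∈ dyadic n) : x ∈ dyadic n := by
  have third : ∀ a b : ℕ, ∃ c : Fin n, c.val / 2 < n / 2 ∧ c.val / 2 ≠ a ∧ c.val / 2 ≠ b := by
    intro a b
    by_cases h0 : a ≠ 0 ∧ b ≠ 0
    · exact ⟨⟨0, by omega⟩, by dsimp only; omega⟩
    by_cases h1 : a ≠ 1 ∧ b ≠ 1
    · exact ⟨⟨2, by omega⟩, by dsimp only; omega⟩
    · exact ⟨⟨4, by omega⟩, by dsimp only; omega⟩
  have move : ∀ i j : Fin n, j.val / 2 < n / 2 → i.val / 2 ≠ j.val / 2 →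
      ∃ σ ∈ dyadic n ⊓ Equiv.Perm.sign.ker, σ i = i ∧ σ j ≠ j := by
    intro i j hj hij
    obtain ⟨j', hne, hj'⟩ := (lt_half_iff j).mp hj
    obtain ⟨c, hc, hca, hcb⟩ := third (i.val / 2) (j.val / 2)
    obtain ⟨c', hcne, hc'⟩ := (lt_half_iff c).mp hc
    refine ⟨Equiv.swap j j' * Equiv.swap c c', ⟨mul_mem (swap_mem hj'.symm) (swap_mem hc'.symm), ?_⟩,
      ?_, ?_⟩
    · show Equiv.Perm.sign _ = 1
      rw [map_mul, Equiv.Perm.sign_swap (Ne.symm hne), Equiv.Perm.sign_swap (Ne.symm hcne),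
        Int.units_mul_self]
    · have h1 : Equiv.swap c c' i = i := Equiv.swap_apply_of_ne_of_ne
        (fun e => hca (by rw [e])) (fun e => hca (by rw [e, hc']))
      have h2 : Equiv.swap j j' i = i := Equiv.swap_apply_of_ne_of_ne
        (fun e => hij (by rw [e])) (fun e => hij (by rw [e, hj']))
      rw [Equiv.Perm.mul_apply, h1, h2]
    · have h1 : Equiv.swap c c' j = j := Equiv.swap_apply_of_ne_of_ne
        (fun e => hcb (by rw [e])) (fun e => hcb (by rw [e, hc']))
      rw [Equiv.Perm.mul_apply, h1, Equiv.swap_apply_left]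
      exact hne
  refine mem_dyadic_of_conj (dyadic n ⊓ Equiv.Perm.sign.ker) inf_le_left
    (fun τ hτ => ⟨lift_mem hτ, sign_lift τ⟩) move ?_ (mem_dyadic_of_normalizes (n / 2)) x ?_
  · intro j hj
    obtain ⟨c, hc, hca, -⟩ := third (j.val / 2) (j.val / 2)
    obtain ⟨σ, hσ, -, h⟩ := move c j hj hca
    exact ⟨σ, hσ, h⟩
  · rintro σ ⟨hσ, hs⟩
    have hs' : Equiv.Perm.sign σ = 1 := hs
    refine ⟨hx σ hσ hs', ?_⟩
    show Equiv.Perm.sign _ = 1
    rw [map_mul, map_mul, hs', map_inv]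
    simp

end Cfsg.Agent.Lib.SymSylow.Basic
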