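import Cfsg.Agent.Lib.SymSylow.Crit
import Cfsg.Agent.Lib.SymSylow.Alternating
import Mathlib

/-! Central-product decompositions of the blocks of the dyadic Sylow subgroup. -/

set_option autoImplicit false

open Equiv Equiv.Perm

namespace Cfsg.Agent.Lib.SymSylow.Decomp

open Cfsg.Agent.Lib.SymSylow.Basic Cfsg.Agent.Lib.SymSylow.Crit

section Abstract

variable {G : Type*} [Group G]

theorem central_of_swap (A Bs L R W : Subgroup G) (hAW : A ≤ W)
    (hBs : Bs ≤ L ⊔ R) (hLB : L ≤ Bs) (hRB : R ≤ Bs) (hLW : L ≤ W) (hRW : R ≤ W)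
    (hd : L ⊓ R = ⊥) (hA : ∀ w ∈ W, ∀ a ∈ A, w * a * w⁻¹ ∈ A)
    (hL : ∀ g ∈ Bs, ∀ x ∈ L, g * x * g⁻¹ ∈ L) (hR : ∀ g ∈ Bs, ∀ x ∈ R, g * x * g⁻¹ ∈ R)
    (hmul : ∀ g ∈ W, ∀ h ∈ W, g ∉ Bs → h ∉ Bs → g * h ∈ Bs)
    (hswap : ∀ g ∈ W, g ∉ Bs → (∀ x ∈ L, g * x * g⁻¹ ∈ R) ∧ ∀ x ∈ R, g * x * g⁻¹ ∈ L)
    {β : G} (hβW : β ∈ W) (hβ : β ∉ Bs) (hcomm : ∀ a ∈ A, a * β = β * a)
    {α : G} (hα : α ∈ A) (hαB : α ∈ Bs) : ∀ w ∈ W, α * w = w * α := by
  have side : ∀ x : G, (x ∈ L ∨ x ∈ R) → α * x = x * α := by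
    intro x hx
    have hxW : x ∈ W := hx.elim (fun h => hLW h) (fun h => hRW h)
    set y := x * α * x⁻¹ * α⁻¹ with hy
    have hyA : y ∈ A := A.mul_mem (hA x hxW α hα) (A.inv_mem hα)
    have hfix : β * y * β⁻¹ = y := by rw [← hcomm y hyA, mul_inv_cancel_right]
    have hy1 : y = 1 := by
      have e : y = x * (α * x⁻¹ * α⁻¹) := by rw [hy]; group
      rcases hx with hx | hx
      · have h1 : y ∈ L := e ▸ L.mul_mem hx (hL α hαB _ (L.inv_mem hx))
        have h2 : y ∈ L ⊓ R := ⟨h1, hfix ▸ (hswap β hβW hβ).1 y h1⟩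
        rwa [hd, Subgroup.mem_bot] at h2
      · have h1 : y ∈ R := e ▸ R.mul_mem hx (hR α hαB _ (R.inv_mem hx))
        have h2 : y ∈ L ⊓ R := ⟨hfix ▸ (hswap β hβW hβ).2 y h1, h1⟩
        rwa [hd, Subgroup.mem_bot] at h2
    calc α * x = 1 * (α * x) := (one_mul _).symm
      _ = y * (α * x) := by rw [hy1]
      _ = x * α := by rw [hy]; group
  have hbase : ∀ w ∈ Bs, α * w = w * α := by
    have hle : L ⊔ R ≤ Subgroup.centralizer {α} := by
      refine sup_le ?_ ?_ <;> intro x hx <;> rw [Subgroup.mem_centralizer_iff] <;> rintro _ rfl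
      · exact side x (Or.inl hx)
      · exact side x (Or.inr hx)
    intro w hw
    exact (Subgroup.mem_centralizer_iff.mp (hle (hBs hw)) α rfl)
  intro w hw
  by_cases hwB : w ∈ Bs
  · exact hbase w hwB
  · have hβi : β⁻¹ ∉ Bs := fun h => hβ (by simpa using Bs.inv_mem h)
    have h1 := hbase _ (hmul w hw β⁻¹ (W.inv_mem hβW) hwB hβi)
    have h2 : α * β = β * α := hcomm α hα
    calc α * w = α * (w * β⁻¹) * β := by group
      _ = w * β⁻¹ * (α * β) := by rw [h1]; group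
      _ = w * α := by rw [h2]; group

/-- In a group with a swapped base `L × R`, one of two commuting generating subgroups is central. -/
theorem one_factor_central (A B Bs L R W : Subgroup G)
    (hABW : A ⊔ B = W) (hAB : ∀ a ∈ A, ∀ b ∈ B, a * b = b * a)
    (hBs : Bs ≤ L ⊔ R) (hLB : L ≤ Bs) (hRB : R ≤ Bs) (hLW : L ≤ W) (hRW : R ≤ W)
    (hd : L ⊓ R = ⊥)
    (hL : ∀ g ∈ Bs, ∀ x ∈ L, g * x * g⁻¹ ∈ L) (hR : ∀ g ∈ Bs, ∀ x ∈ R, g * x * g⁻¹ ∈ R)
    (hmul : ∀ g ∈ W, ∀ h ∈ W, g ∉ Bs → h ∉ Bs → g * h ∈ Bs)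
    (hswap : ∀ g ∈ W, g ∉ Bs → (∀ x ∈ L, g * x * g⁻¹ ∈ R) ∧ ∀ x ∈ R, g * x * g⁻¹ ∈ L)
    (hout : ¬ W ≤ Bs) (hnc : ∃ a ∈ W, ∃ b ∈ W, a * b ≠ b * a) :
    (∀ a ∈ A, ∀ w ∈ W, a * w = w * a) ∨ (∀ b ∈ B, ∀ w ∈ W, b * w = w * b) := by
  have hAW : A ≤ W := hABW ▸ le_sup_left
  have hBW : B ≤ W := hABW ▸ le_sup_right
  have hBA : ∀ b ∈ B, ∀ a ∈ A, b * a = a * b := fun b hb a ha => (hAB a ha b hb).symm
  have norm : ∀ (X Y : Subgroup G), X ⊔ Y = W → (∀ x ∈ X, ∀ y ∈ Y, x * y = y * x) →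
      ∀ w ∈ W, ∀ x ∈ X, w * x * w⁻¹ ∈ X := by
    intro X Y hXY hc
    have hle : X ⊔ Y ≤ Subgroup.normalizer (X : Set G) := by
      refine sup_le Subgroup.le_normalizer (le_trans ?_ (Subgroup.centralizer_le_normalizer (X : Set G)))
      exact fun y hy => Subgroup.mem_centralizer_iff.mpr fun x hx => hc x hx y hy
    intro w hw x hx
    exact (Subgroup.mem_normalizer_iff.mp (hle (hXY.symm ▸ hw)) x).mp hx
  have hnA := norm A B hABW hAB
  have hnB := norm B A (sup_comm A B ▸ hABW) hBA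
  by_cases hA' : A ≤ Bs
  · -- some element of `B` swaps
    obtain ⟨β, hβB, hβ⟩ : ∃ β ∈ B, β ∉ Bs := by
      by_contra hcon
      push Not at hcon
      exact hout (hABW ▸ sup_le hA' hcon)
    exact Or.inl fun a ha => central_of_swap A Bs L R W hAW hBs hLB hRB hLW hRW hd hnA hL hR hmul
      hswap (hBW hβB) hβ (fun x hx => hAB x hx β hβB) ha (hA' ha)
  · obtain ⟨α, hαA, hα⟩ := SetLike.not_le_iff_exists.mp hA'
    have hBc : ∀ b ∈ B, b ∈ Bs → ∀ w ∈ W, b * w = w * b := fun b hb hbB =>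
      central_of_swap B Bs L R W hBW hBs hLB hRB hLW hRW hd hnB hL hR hmul hswap (hAW hαA) hα
        (fun x hx => hBA x hx α hαA) hb hbB
    by_cases hB' : B ≤ Bs
    · exact Or.inr fun b hb => hBc b hb (hB' hb)
    · exfalso
      obtain ⟨β, hβB, hβ⟩ := SetLike.not_le_iff_exists.mp hB'
      have hAc : ∀ a ∈ A, a ∈ Bs → ∀ w ∈ W, a * w = w * a := fun a ha haB =>
        central_of_swap A Bs L R W hAW hBs hLB hRB hLW hRW hd hnA hL hR hmul hswap (hBW hβB) hβ
          (fun x hx => hAB x hx β hβB) ha haB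
      have comm : ∀ (X : Subgroup G), X ≤ W → ∀ x0 ∈ X, x0 ∉ Bs →
          (∀ x ∈ X, x ∈ Bs → ∀ w ∈ W, x * w = w * x) → ∀ x ∈ X, ∀ y ∈ X, x * y = y * x := by
        intro X hX x0 hx0 hx0B hc
        have key : ∀ x ∈ X, x * x0 = x0 * x ∧ (∀ y ∈ X, y * x0 = x0 * y → x * y = y * x) := by
          intro x hx
          by_cases hxB : x ∈ Bs
          · exact ⟨hc x hx hxB x0 (hX hx0), fun y hy _ => hc x hx hxB y (hX hy)⟩
          · have hi : x0⁻¹ ∉ Bs := fun h => hx0B (by simpa using Bs.inv_mem h)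
            have h1 := hc _ (X.mul_mem hx (X.inv_mem hx0))
              (hmul x (hX hx) x0⁻¹ (W.inv_mem (hX hx0)) hxB hi)
            refine ⟨?_, fun y hy hy0 => ?_⟩
            · calc x * x0 = x * x0⁻¹ * x0 * x0 := by group
                _ = x0 * (x * x0⁻¹) * x0 := by rw [h1 x0 (hX hx0)]
                _ = x0 * x := by group
            · calc x * y = x * x0⁻¹ * (x0 * y) := by group
                _ = x * x0⁻¹ * (y * x0) := by rw [hy0]
                _ = x * x0⁻¹ * y * x0 := by group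
                _ = y * (x * x0⁻¹) * x0 := by rw [h1 y (hX hy)]
                _ = y * x := by group
        intro x hx y hy
        exact (key x hx).2 y hy (key y hy).1
      have cA := comm A hAW α hαA hα hAc
      have cB := comm B hBW β hβB hβ hBc
      obtain ⟨a, ha, b, hb, hne⟩ := hnc
      apply hne
      have hA2 : A ⊔ B ≤ Subgroup.centralizer (A : Set G) := sup_le
        (fun x hx => Subgroup.mem_centralizer_iff.mpr fun y hy => cA y hy x hx)
        (fun x hx => Subgroup.mem_centralizer_iff.mpr fun y hy => hAB y hy x hx)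
      have hB2 : A ⊔ B ≤ Subgroup.centralizer (B : Set G) := sup_le
        (fun x hx => Subgroup.mem_centralizer_iff.mpr fun y hy => hBA y hy x hx)
        (fun x hx => Subgroup.mem_centralizer_iff.mpr fun y hy => cB y hy x hx)
      rw [hABW] at hA2 hB2
      have hW : A ⊔ B ≤ Subgroup.centralizer (W : Set G) := sup_le
        (fun x hx => Subgroup.mem_centralizer_iff.mpr fun y hy =>
          (Subgroup.mem_centralizer_iff.mp (hA2 hy) x hx).symm)
        (fun x hx => Subgroup.mem_centralizer_iff.mpr fun y hy =>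
          (Subgroup.mem_centralizer_iff.mp (hB2 hy) x hx).symm)
      rw [hABW] at hW
      exact Subgroup.mem_centralizer_iff.mp (hW hb) a ha

end Abstract

variable {n : ℕ}

/-- The even dyadic permutations. -/
def dyadicEven (n : ℕ) : Subgroup (Perm (Fin n)) := dyadic n ⊓ Equiv.Perm.sign.ker

theorem mem_dyadicEven {σ : Perm (Fin n)} :
    σ ∈ dyadicEven n ↔ σ ∈ dyadic n ∧ Equiv.Perm.sign σ = 1 := Iff.rfl

/-- The top class of level `k`. -/
def blockClass (n k : ℕ) : ℕ := n / 2 ^ k - 1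

theorem blockClass_add_one {k : ℕ} (hk : n / 2 ^ k % 2 = 1) : blockClass n k + 1 = n / 2 ^ k := by
  unfold blockClass
  generalize n / 2 ^ k = b at hk ⊢
  omega

theorem blockClass_lt {k : ℕ} (hk : n / 2 ^ k % 2 = 1) : blockClass n k < n / 2 ^ k :=
  (Nat.lt_succ_self _).trans_eq (blockClass_add_one hk)

theorem inBlock_iff_class {k : ℕ} (hk : n / 2 ^ k % 2 = 1) (i : Fin n) :
    InBlock n k i ↔ i.val / 2 ^ k = blockClass n k := by
  rw [InBlock, ← blockClass_add_one hk]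
  constructor
  · rintro ⟨h, -⟩; exact Nat.add_right_cancel h
  · intro h; exact ⟨by rw [h], by rw [blockClass_add_one hk]; exact hk⟩

theorem blockClass_stable {σ : Perm (Fin n)} (hσ : σ ∈ dyadic n) {k : ℕ} (hk : n / 2 ^ k % 2 = 1)
    (i : Fin n) : (σ i).val / 2 ^ k = blockClass n k ↔ i.val / 2 ^ k = blockClass n k := by
  rw [← inBlock_iff_class hk, ← inBlock_iff_class hk, inBlock_apply hσ]

/-- Projection to a block. -/
def proj (k : ℕ) (hk : n / 2 ^ k % 2 = 1) : ↥(dyadic n) →* Perm (Fin n) where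
  toFun σ := res k (blockClass n k) σ.1 (blockClass_stable σ.2 hk)
  map_one' := by
    ext i
    rw [res_apply]
    simp
  map_mul' σ τ := by
    ext i
    simp only [Subgroup.coe_mul, Equiv.Perm.mul_apply, res_apply]
    by_cases hi : i.val / 2 ^ k = blockClass n k
    · rw [if_pos hi, if_pos hi, if_pos ((blockClass_stable τ.2 hk i).mpr hi)]
    · rw [if_neg hi, if_neg hi, if_neg hi]

theorem proj_apply (k : ℕ) (hk : n / 2 ^ k % 2 = 1) (σ : ↥(dyadic n)) (i : Fin n) :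
    proj k hk σ i = if i.val / 2 ^ k = blockClass n k then σ.1 i else i :=
  res_apply _ i

theorem proj_mem (k : ℕ) (hk : n / 2 ^ k % 2 = 1) (σ : ↥(dyadic n)) : proj k hk σ ∈ dyadic n :=
  res_mem σ.2 _

/-- The group of the block. -/
def blockGroup (k : ℕ) (hk : n / 2 ^ k % 2 = 1) : Subgroup (Perm (Fin n)) := (proj k hk).range

theorem blockGroup_le (k : ℕ) (hk : n / 2 ^ k % 2 = 1) : blockGroup (n := n) k hk ≤ dyadic n := by
  rintro _ ⟨σ, rfl⟩
  exact proj_mem k hk σ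

theorem mem_blockGroup {k : ℕ} {hk : n / 2 ^ k % 2 = 1} {σ : Perm (Fin n)} :
    σ ∈ blockGroup k hk ↔ σ ∈ dyadic n ∧ ∀ i : Fin n, i.val / 2 ^ k ≠ blockClass n k → σ i = i := by
  constructor
  · rintro ⟨τ, rfl⟩
    exact ⟨proj_mem k hk τ, fun i hi => by rw [proj_apply, if_neg hi]⟩
  · rintro ⟨h1, h2⟩
    refine ⟨⟨σ, h1⟩, Equiv.ext fun i => ?_⟩
    rw [proj_apply]
    split_ifs with hi
    · rfl
    · exact (h2 i hi).symm

theorem two_mul_xor_one (c : ℕ) : (2 * c) ^^^ 1 = 2 * c + 1 ∧ (2 * c + 1) ^^^ 1 = 2 * c := by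
  have h1 := xor_div (2 * c) 1 1 (by norm_num) 1 le_rfl
  have h2 := xor_div (2 * c + 1) 1 1 (by norm_num) 1 le_rfl
  have h3 : (2 * c) ^^^ 1 ≠ 2 * c := fun e => by
    have := congrArg (2 * c ^^^ ·) e
    simp [← Nat.xor_assoc] at this
  have h4 : (2 * c + 1) ^^^ 1 ≠ 2 * c + 1 := fun e => by
    have := congrArg ((2 * c + 1) ^^^ ·) e
    simp [← Nat.xor_assoc] at this
  simp only [pow_one] at h1 h2
  omega

theorem xor_pow_div (a h : ℕ) : (a ^^^ 2 ^ h) / 2 ^ h = (a / 2 ^ h) ^^^ 1 := by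
  rw [← Nat.shiftRight_eq_div_pow, Nat.shiftRight_xor_distrib, Nat.shiftRight_eq_div_pow,
    Nat.shiftRight_eq_div_pow, Nat.div_self (Nat.two_pow_pos h)]

theorem swap_div_eq {i : Fin n} {h c : ℕ} (hi : i.val / 2 ^ (h + 1) = c) :
    i.val / 2 ^ h = 2 * c ∨ i.val / 2 ^ h = 2 * c + 1 := by
  rw [pow_succ, ← Nat.div_div_eq_div_mul] at hi
  omega

theorem halves_lt {h : ℕ} (hk : n / 2 ^ (h + 1) % 2 = 1) :
    2 * blockClass n (h + 1) + 1 < n / 2 ^ h := by
  have e : n / 2 ^ (h + 1) = n / 2 ^ h / 2 := by rw [pow_succ, Nat.div_div_eq_div_mul]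
  have e2 := blockClass_add_one hk
  rw [e] at e2
  generalize n / 2 ^ h = b at e2 ⊢
  omega

/-- The half-swapping element. -/
def halfSwap (n h : ℕ) : Perm (Fin n) :=
  xorOn (h + 1) (fun c => decide (c = blockClass n (h + 1))) (2 ^ h)

/-- The pair-swapping element. -/
def pairSwap (n k : ℕ) : Perm (Fin n) := xorOn k (fun c => decide (c = blockClass n k)) 1

/-- The pair-swapping element of the left half. -/
def leftPairSwap (n h : ℕ) : Perm (Fin n) :=
  xorOn h (fun c => decide (c = 2 * blockClass n (h + 1))) 1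

theorem halfSwap_val {h : ℕ} (hk : n / 2 ^ (h + 1) % 2 = 1) {i : Fin n}
    (hi : i.val / 2 ^ (h + 1) = blockClass n (h + 1)) :
    (halfSwap n h i).val = i.val ^^^ 2 ^ h :=
  xorOn_apply_pos (Nat.pow_lt_pow_right (by norm_num) (Nat.lt_succ_self h))
    (by rw [hi]; exact blockClass_lt hk) (by simp [hi])

theorem halfSwap_div {h : ℕ} (hk : n / 2 ^ (h + 1) % 2 = 1) {i : Fin n}
    (hi : i.val / 2 ^ (h + 1) = blockClass n (h + 1)) :
    (i.val / 2 ^ h = 2 * blockClass n (h + 1) →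
        (halfSwap n h i).val / 2 ^ h = 2 * blockClass n (h + 1) + 1) ∧
      (i.val / 2 ^ h = 2 * blockClass n (h + 1) + 1 →
        (halfSwap n h i).val / 2 ^ h = 2 * blockClass n (h + 1)) := by
  rw [halfSwap_val hk hi, xor_pow_div]
  constructor <;> intro e <;> rw [e]
  · exact (two_mul_xor_one _).1
  · exact (two_mul_xor_one _).2

theorem pairSwap_val {k : ℕ} (hk1 : 1 ≤ k) (hk : n / 2 ^ k % 2 = 1) {i : Fin n}
    (hi : i.val / 2 ^ k = blockClass n k) : (pairSwap n k i).val = i.val ^^^ 1 :=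
  xorOn_apply_pos (Nat.one_lt_two_pow (by omega)) (by rw [hi]; exact blockClass_lt hk) (by simp [hi])

theorem pairSwap_fix {k : ℕ} {i : Fin n} (hi : i.val / 2 ^ k ≠ blockClass n k) :
    pairSwap n k i = i :=
  xorOn_apply_neg fun e => hi (of_decide_eq_true e.2)

theorem halfSwap_fix {h : ℕ} {i : Fin n} (hi : i.val / 2 ^ (h + 1) ≠ blockClass n (h + 1)) :
    halfSwap n h i = i :=
  xorOn_apply_neg fun e => hi (of_decide_eq_true e.2)

theorem leftPairSwap_fix {h : ℕ} {i : Fin n} (hi : i.val / 2 ^ h ≠ 2 * blockClass n (h + 1)) :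
    leftPairSwap n h i = i :=
  xorOn_apply_neg fun e => hi (of_decide_eq_true e.2)

theorem leftPairSwap_val {h : ℕ} (h1 : 1 ≤ h) (hk : n / 2 ^ (h + 1) % 2 = 1) {i : Fin n}
    (hi : i.val / 2 ^ h = 2 * blockClass n (h + 1)) :
    (leftPairSwap n h i).val = i.val ^^^ 1 :=
  xorOn_apply_pos (Nat.one_lt_two_pow (by omega))
    (by rw [hi]; exact Nat.lt_of_succ_lt (halves_lt hk)) (by simp [hi])

theorem halfSwap_mem_blockGroup (h : ℕ) (hk : n / 2 ^ (h + 1) % 2 = 1) :
    halfSwap n h ∈ blockGroup (h + 1) hk :=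
  mem_blockGroup.mpr ⟨xorOn_mem _ _ _, fun _ hi => halfSwap_fix hi⟩

theorem leftPairSwap_mem_blockGroup (h : ℕ) (hk : n / 2 ^ (h + 1) % 2 = 1) :
    leftPairSwap n h ∈ blockGroup (h + 1) hk := by
  refine mem_blockGroup.mpr ⟨xorOn_mem _ _ _, fun i hi => leftPairSwap_fix fun e => hi ?_⟩
  rw [pow_succ, ← Nat.div_div_eq_div_mul, e]
  omega

open scoped commutatorElement in
/-- The pair swap of a block is a commutator. -/
theorem commutator_eq_pairSwap {h : ℕ} (h1 : 1 ≤ h) (hk : n / 2 ^ (h + 1) % 2 = 1) :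
    ⁅leftPairSwap n h, halfSwap n h⁆ = pairSwap n (h + 1) := by
  have hl : (leftPairSwap n h)⁻¹ = leftPairSwap n h := Equiv.ext fun _ => rfl
  have ht : (halfSwap n h)⁻¹ = halfSwap n h := Equiv.ext fun _ => rfl
  rw [commutatorElement_def, hl, ht]
  ext i
  simp only [Equiv.Perm.mul_apply]
  set c := blockClass n (h + 1) with hc
  by_cases hi : i.val / 2 ^ (h + 1) = c
  · have hbig : ∀ j : Fin n, j.val / 2 ^ h = 2 * c ∨ j.val / 2 ^ h = 2 * c + 1 →
        j.val / 2 ^ (h + 1) = c := by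
      intro j hj
      rw [pow_succ, ← Nat.div_div_eq_div_mul]
      omega
    have hinv : ∀ j : Fin n, halfSwap n h (halfSwap n h j) = j := xorFun_invol _ _ _
    rcases swap_div_eq hi with e | e
    · have e1 := (halfSwap_div hk hi).1 e
      rw [leftPairSwap_fix (i := halfSwap n h i) (by omega), hinv, leftPairSwap_val h1 hk e,
        pairSwap_val (by omega) hk hi]
    · have e1 := (halfSwap_div hk hi).2 e
      set j := halfSwap n h i with hj
      have hj1 := leftPairSwap_val h1 hk e1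
      have hj2 : (leftPairSwap n h j).val / 2 ^ h = 2 * c := by
        rw [hj1, xor_div _ 1 1 (by norm_num) h h1, e1]
      have e2 := (halfSwap_div hk (hbig _ (Or.inl hj2))).1 hj2
      rw [leftPairSwap_fix (by omega), halfSwap_val hk (hbig _ (Or.inl hj2)), hj1, hj,
        halfSwap_val hk hi, pairSwap_val (by omega) hk hi, Nat.xor_assoc, Nat.xor_assoc,
        Nat.xor_comm 1, ← Nat.xor_assoc (2 ^ h), Nat.xor_self, Nat.zero_xor]
  · have hh : i.val / 2 ^ h ≠ 2 * c := fun e => hi (by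
      rw [pow_succ, ← Nat.div_div_eq_div_mul, e]; omega)
    rw [halfSwap_fix hi, leftPairSwap_fix hh, halfSwap_fix hi, leftPairSwap_fix hh, pairSwap_fix hi]

theorem eq_of_le_sup {G : Type*} [Group G] {A B W : Subgroup G} (h1 : A ⊔ B ≤ W) (h2 : W ≤ A ⊔ B) :
    A ⊔ B = W := le_antisymm h1 h2

/-- In a block of size at least four one of two commuting factors is central. -/
theorem block_factor_central {h : ℕ} (h1 : 1 ≤ h) (hk : n / 2 ^ (h + 1) % 2 = 1)
    (A B : Subgroup (Perm (Fin n))) (hAB : A ⊔ B = blockGroup (h + 1) hk)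
    (hcomm : ∀ a ∈ A, ∀ b ∈ B, a * b = b * a) :
    (∀ a ∈ A, ∀ w ∈ blockGroup (h + 1) hk, a * w = w * a) ∨
      (∀ b ∈ B, ∀ w ∈ blockGroup (h + 1) hk, b * w = w * b) := by
  set c := blockClass n (h + 1) with hc
  set W := blockGroup (h + 1) hk with hW
  have hfull : 2 * c + 1 < n / 2 ^ h := halves_lt hk
  have inblk : ∀ i : Fin n, i.val / 2 ^ h = 2 * c ∨ i.val / 2 ^ h = 2 * c + 1 →
      i.val / 2 ^ (h + 1) = c := by
    intro i hi
    rw [pow_succ, ← Nat.div_div_eq_div_mul]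
    omega
  let mkHalf : ℕ → Subgroup (Perm (Fin n)) := fun d =>
    { carrier := {σ | σ ∈ dyadic n ∧ ∀ i : Fin n, i.val / 2 ^ h ≠ d → σ i = i}
      one_mem' := ⟨one_mem _, fun _ _ => rfl⟩
      mul_mem' := fun {a b} ha hb => ⟨mul_mem ha.1 hb.1, fun i hi => by
        rw [Equiv.Perm.mul_apply, hb.2 i hi, ha.2 i hi]⟩
      inv_mem' := fun {a} ha => ⟨inv_mem ha.1, fun i hi => by
        rw [Equiv.Perm.inv_eq_iff_eq, ha.2 i hi]⟩ }
  let Bs : Subgroup (Perm (Fin n)) :=
    { carrier := {σ | σ ∈ W ∧ ∀ i : Fin n, i.val / 2 ^ (h + 1) = c → (σ i).val / 2 ^ h = i.val / 2 ^ h}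
      one_mem' := ⟨one_mem _, fun _ _ => rfl⟩
      mul_mem' := fun {a b} ha hb => ⟨mul_mem ha.1 hb.1, fun i hi => by
        have hbi : (b i).val / 2 ^ (h + 1) = c :=
          (blockClass_stable (blockGroup_le _ hk hb.1) hk i).mpr hi
        rw [Equiv.Perm.mul_apply, ha.2 _ hbi, hb.2 i hi]⟩
      inv_mem' := fun {a} ha => ⟨inv_mem ha.1, fun i hi => by
        have hbi : (a⁻¹ i).val / 2 ^ (h + 1) = c :=
          (blockClass_stable (inv_mem (blockGroup_le _ hk ha.1)) hk i).mpr hi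
        have := ha.2 _ hbi
        rw [show a (a⁻¹ i) = i from a.apply_symm_apply i] at this
        exact this.symm⟩ }
  have hhalfW : ∀ d, (d = 2 * c ∨ d = 2 * c + 1) → ∀ σ ∈ mkHalf d, σ ∈ W := fun d hd σ hσ =>
    mem_blockGroup.mpr ⟨hσ.1, fun i hi => hσ.2 i fun e => hi (inblk i (by omega))⟩
  have hhalfBs : ∀ d, (d = 2 * c ∨ d = 2 * c + 1) → ∀ σ ∈ mkHalf d, σ ∈ Bs := by
    intro d hd σ hσ
    refine ⟨hhalfW d hd σ hσ, fun i _ => ?_⟩
    by_cases e : i.val / 2 ^ h = d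
    · by_contra hne
      have h2 := hσ.2 (σ i) (fun e' => hne (e'.trans e.symm))
      exact hne (by rw [σ.injective h2])
    · rw [hσ.2 i e]
  -- an element outside `Bs` exchanges the halves
  have flip : ∀ g ∈ W, g ∉ Bs → ∀ i : Fin n, i.val / 2 ^ (h + 1) = c →
      (g i).val / 2 ^ h ≠ i.val / 2 ^ h := by
    intro g hg hgB i hi heq
    apply hgB
    refine ⟨hg, fun j hj => ?_⟩
    have hgP := blockGroup_le _ hk hg
    have hgi : (g i).val / 2 ^ (h + 1) = c := (blockClass_stable hgP hk i).mpr hi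
    have hgj : (g j).val / 2 ^ (h + 1) = c := (blockClass_stable hgP hk j).mpr hj
    have hp := crit_iff.mp hgP h
    by_cases hij : i.val / 2 ^ h = j.val / 2 ^ h
    · rw [← hp i j hij, heq, hij]
    · have : (g i).val / 2 ^ h ≠ (g j).val / 2 ^ h := fun e =>
        hij (crit_symm (crit_iff.mp hgP) h i j e)
      rcases swap_div_eq hi with a | a <;> rcases swap_div_eq hj with b | b <;>
        rcases swap_div_eq hgi with x | x <;> rcases swap_div_eq hgj with y | y <;> omega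
  have hconj : ∀ (g σ : Perm (Fin n)) (d d' : ℕ), g ∈ W → σ ∈ mkHalf d →
      (∀ i : Fin n, i.val / 2 ^ h = d → (g i).val / 2 ^ h = d') → g * σ * g⁻¹ ∈ mkHalf d' := by
    intro g σ d d' hg hσ hmap
    refine ⟨mul_mem (mul_mem (blockGroup_le _ hk hg) hσ.1) (inv_mem (blockGroup_le _ hk hg)),
      fun i hi => ?_⟩
    have hne : (g⁻¹ i).val / 2 ^ h ≠ d := fun e => hi (by
      have := hmap _ e
      rwa [show g (g⁻¹ i) = i from g.apply_symm_apply i] at this)
    rw [Equiv.Perm.mul_apply, Equiv.Perm.mul_apply, hσ.2 _ hne]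
    exact g.apply_symm_apply i
  refine one_factor_central A B Bs (mkHalf (2 * c)) (mkHalf (2 * c + 1)) W hAB hcomm
    ?_ (hhalfBs _ (Or.inl rfl)) (hhalfBs _ (Or.inr rfl)) (hhalfW _ (Or.inl rfl))
    (hhalfW _ (Or.inr rfl)) ?_ ?_ ?_ ?_ ?_ ?_ ?_
  · intro σ hσ
    have hσP := blockGroup_le _ hk hσ.1
    have hst : ∀ d, (d = 2 * c ∨ d = 2 * c + 1) →
        ∀ i : Fin n, (σ i).val / 2 ^ h = d ↔ i.val / 2 ^ h = d := by
      intro d hd i
      constructor
      · intro e
        have hi := (blockClass_stable hσP hk i).mp (inblk (σ i) (by omega))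
        rw [← hσ.2 i hi]; exact e
      · intro e
        rw [hσ.2 i (inblk i (by omega))]; exact e
    have e : σ = res h (2 * c) σ (hst _ (Or.inl rfl)) * res h (2 * c + 1) σ (hst _ (Or.inr rfl)) := by
      refine Equiv.ext fun i => ?_
      rw [Equiv.Perm.mul_apply, res_apply (hst _ (Or.inr rfl)), res_apply]
      by_cases hr : i.val / 2 ^ h = 2 * c + 1
      · rw [if_pos hr, if_neg]
        have := (hst _ (Or.inr rfl) i).mpr hr
        omega
      · rw [if_neg hr]
        split_ifs with hl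
        · rfl
        · refine (mem_blockGroup.mp hσ.1).2 i fun ei => ?_
          rcases swap_div_eq ei with a | a
          · exact hl a
          · exact hr a
    rw [e]
    exact Subgroup.mul_mem_sup ⟨res_mem hσP _, fun i hi => by rw [res_apply, if_neg hi]⟩
      ⟨res_mem hσP _, fun i hi => by rw [res_apply, if_neg hi]⟩
  · rw [eq_bot_iff]
    rintro σ ⟨hl, hr⟩
    refine Subgroup.mem_bot.mpr (Equiv.ext fun i => ?_)
    by_cases hi : i.val / 2 ^ h = 2 * c
    · exact hr.2 i (by omega)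
    · exact hl.2 i hi
  · intro g hg x hx
    exact hconj g x _ _ hg.1 hx fun i hi => by rw [hg.2 i (inblk i (Or.inl hi)), hi]
  · intro g hg x hx
    exact hconj g x _ _ hg.1 hx fun i hi => by rw [hg.2 i (inblk i (Or.inr hi)), hi]
  · intro g hg g' hg' hgB hgB'
    refine ⟨mul_mem hg hg', fun i hi => ?_⟩
    have h' := flip g' hg' hgB' i hi
    have hgi : (g' i).val / 2 ^ (h + 1) = c := (blockClass_stable (blockGroup_le _ hk hg') hk i).mpr hi
    have h'' := flip g hg hgB _ hgi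
    have hggi : (g (g' i)).val / 2 ^ (h + 1) = c :=
      (blockClass_stable (blockGroup_le _ hk hg) hk _).mpr hgi
    rw [Equiv.Perm.mul_apply]
    rcases swap_div_eq hi with a | a <;> rcases swap_div_eq hgi with b | b <;>
      rcases swap_div_eq hggi with x | x <;> omega
  · intro g hg hgB
    constructor <;> intro x hx <;> refine hconj g x _ _ hg hx fun i hi => ?_
    · have hb := inblk i (Or.inl hi)
      have h' := flip g hg hgB i hb
      rcases swap_div_eq ((blockClass_stable (blockGroup_le _ hk hg) hk i).mpr hb) with a | a <;> omega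
    · have hb := inblk i (Or.inr hi)
      have h' := flip g hg hgB i hb
      rcases swap_div_eq ((blockClass_stable (blockGroup_le _ hk hg) hk i).mpr hb) with a | a <;> omega
  · intro hle
    have ht := hle (halfSwap_mem_blockGroup h hk)
    have hp : 2 * c * 2 ^ h < n := by
      have h1 : (2 * c + 1) * 2 ^ h ≤ n / 2 ^ h * 2 ^ h := Nat.mul_le_mul_right _ hfull.le
      have := Nat.div_mul_le_self n (2 ^ h)
      nlinarith [Nat.two_pow_pos h]
    let i : Fin n := ⟨2 * c * 2 ^ h, hp⟩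
    have hi : i.val / 2 ^ h = 2 * c := Nat.mul_div_cancel _ (Nat.two_pow_pos h)
    have := ht.2 i (inblk i (Or.inl hi))
    rw [(halfSwap_div hk (inblk i (Or.inl hi))).1 hi] at this
    omega
  · refine ⟨_, leftPairSwap_mem_blockGroup h hk, _, halfSwap_mem_blockGroup h hk, fun e => ?_⟩
    have hz := commutator_eq_pairSwap h1 hk
    rw [commutatorElement_def, e, mul_inv_cancel_right, mul_inv_cancel] at hz
    have hp : c * 2 ^ (h + 1) < n := by
      have h1 : (c + 1) * 2 ^ (h + 1) ≤ n / 2 ^ (h + 1) * 2 ^ (h + 1) :=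
        Nat.mul_le_mul_right _ (by rw [hc, blockClass_add_one hk])
      have := Nat.div_mul_le_self n (2 ^ (h + 1))
      nlinarith [Nat.two_pow_pos (h + 1)]
    let i : Fin n := ⟨c * 2 ^ (h + 1), hp⟩
    have hi : i.val / 2 ^ (h + 1) = c := Nat.mul_div_cancel _ (Nat.two_pow_pos _)
    have := pairSwap_val (Nat.succ_le_succ (Nat.zero_le h)) hk hi
    rw [← hz] at this
    simp at this
    have h2 := congrArg (i.val ^^^ ·) this
    simp [← Nat.xor_assoc] at h2

end Cfsg.Agent.Lib.SymSylow.Decomp
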