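import Cfsg.Prelude.Def_TwoFusion
import Cfsg.Agent.Lib.SymSylow.Decomp
import Mathlib

/-! Direct decompositions of the Sylow 2-subgroups of alternating groups. -/

set_option autoImplicit false

open Equiv Equiv.Perm
open scoped commutatorElement

namespace Cfsg.Agent.Lib.SymSylow.Indecomposable

open Cfsg.Agent.Lib.SymSylow.Basic Cfsg.Agent.Lib.SymSylow.Crit Cfsg.Agent.Lib.SymSylow.Decomp

/-- `S` is a direct product of two nontrivial subgroups. -/
def Dec {G : Type*} [Group G] (S : Subgroup G) : Prop :=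
  ∃ S₁ S₂ : Subgroup G, S₁ ≠ ⊥ ∧ S₂ ≠ ⊥ ∧ Cfsg.IsInternalDirectProduct S₁ S₂ S

theorem dec_map_iff {G H : Type*} [Group G] [Group H] (f : G →* H) (hf : Function.Injective f)
    (S : Subgroup G) : Dec (S.map f) ↔ Dec S := by
  constructor
  · rintro ⟨T₁, T₂, h1, h2, hle1, hle2, hc, hi, hs⟩
    have e1 : (T₁.comap f).map f = T₁ :=
      Subgroup.map_comap_eq_self (hle1.trans (Subgroup.map_le_range f S))
    have e2 : (T₂.comap f).map f = T₂ :=
      Subgroup.map_comap_eq_self (hle2.trans (Subgroup.map_le_range f S))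
    refine ⟨T₁.comap f, T₂.comap f, ?_, ?_, ?_, ?_, ?_, ?_, ?_⟩
    · intro e; exact h1 (by rw [← e1, e, Subgroup.map_bot])
    · intro e; exact h2 (by rw [← e2, e, Subgroup.map_bot])
    · rw [← Subgroup.map_le_map_iff_of_injective hf, e1]; exact hle1
    · rw [← Subgroup.map_le_map_iff_of_injective hf, e2]; exact hle2
    · intro a ha b hb
      exact hf (by rw [map_mul, map_mul]; exact hc _ ha _ hb)
    · refine Subgroup.map_injective hf ?_
      rw [Subgroup.map_inf _ _ _ hf, e1, e2, hi, Subgroup.map_bot]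
    · refine Subgroup.map_injective hf ?_
      rw [Subgroup.map_sup, e1, e2, hs]
  · rintro ⟨T₁, T₂, h1, h2, hle1, hle2, hc, hi, hs⟩
    refine ⟨T₁.map f, T₂.map f, ?_, ?_, Subgroup.map_mono hle1, Subgroup.map_mono hle2, ?_, ?_, ?_⟩
    · rwa [Ne, Subgroup.map_eq_bot_iff_of_injective _ hf]
    · rwa [Ne, Subgroup.map_eq_bot_iff_of_injective _ hf]
    · rintro _ ⟨a, ha, rfl⟩ _ ⟨b, hb, rfl⟩
      rw [← map_mul, ← map_mul, hc a ha b hb]
    · rw [← Subgroup.map_inf _ _ _ hf, hi, Subgroup.map_bot]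
    · rw [← Subgroup.map_sup, hs]

variable {n : ℕ}

/-- The even part of the dyadic group, inside it. -/
def evenPart (n : ℕ) : Subgroup ↥(dyadic n) :=
  (Equiv.Perm.sign.comp (dyadic n).subtype).ker

theorem mem_evenPart {σ : ↥(dyadic n)} : σ ∈ evenPart n ↔ Equiv.Perm.sign σ.1 = 1 := Iff.rfl

theorem exists_pair (hn : 6 ≤ n) (a b : ℕ) :
    ∃ u u' : Fin n, u' ≠ u ∧ u'.val / 2 = u.val / 2 ∧ u.val / 2 < n / 2 ∧
      u.val / 2 ≠ a ∧ u.val / 2 ≠ b := by
  by_cases h0 : a ≠ 0 ∧ b ≠ 0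
  · exact ⟨⟨0, by omega⟩, ⟨1, by omega⟩, by simp [Fin.ext_iff], by simp, by dsimp only; omega⟩
  by_cases h1 : a ≠ 1 ∧ b ≠ 1
  · exact ⟨⟨2, by omega⟩, ⟨3, by omega⟩, by simp [Fin.ext_iff], by simp, by dsimp only; omega⟩
  · exact ⟨⟨4, by omega⟩, ⟨5, by omega⟩, by simp [Fin.ext_iff], by simp, by dsimp only; omega⟩

theorem swap_fix {u u' j : Fin n} (h : u'.val / 2 = u.val / 2) (hj : j.val / 2 ≠ u.val / 2) :
    Equiv.swap u u' j = j :=
  Equiv.swap_apply_of_ne_of_ne (fun e => hj (by rw [e])) (fun e => hj (by rw [e, h]))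

/-- An even element fixing `i` and moving `j`. -/
theorem exists_move (hn : 6 ≤ n) (i j : Fin n) (hj : j.val / 2 < n / 2) (hij : i.val / 2 ≠ j.val / 2) :
    ∃ σ ∈ evenPart n, σ.1 i = i ∧ σ.1 j ≠ j := by
  obtain ⟨j', hne, hj'⟩ := (lt_half_iff j).mp hj
  obtain ⟨u, u', hu, hu', -, hui, huj⟩ := exists_pair hn (i.val / 2) (j.val / 2)
  refine ⟨⟨Equiv.swap j j' * Equiv.swap u u', mul_mem (swap_mem hj'.symm) (swap_mem hu'.symm)⟩,
    ?_, ?_, ?_⟩
  · rw [mem_evenPart, map_mul, Equiv.Perm.sign_swap (Ne.symm hne), Equiv.Perm.sign_swap (Ne.symm hu),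
      Int.units_mul_self]
  · rw [Equiv.Perm.mul_apply, swap_fix hu' (Ne.symm hui), swap_fix hj' hij]
  · rw [Equiv.Perm.mul_apply, swap_fix hu' (Ne.symm huj), Equiv.swap_apply_left]
    exact hne

/-- An element centralising the even part on a block is trivial there or swaps the pairs. -/
theorem central_on_block (hn : 6 ≤ n) {k : ℕ} (hk2 : 2 ≤ k) (hk : n / 2 ^ k % 2 = 1)
    (c : ↥(dyadic n))
    (hc : ∀ σ ∈ evenPart n, ∀ i : Fin n, i.val / 2 ^ k = blockClass n k → c.1 (σ.1 i) = σ.1 (c.1 i)) :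
    (∀ i : Fin n, i.val / 2 ^ k = blockClass n k → c.1 i = i) ∨
      (∀ i : Fin n, i.val / 2 ^ k = blockClass n k → c.1 i = pairSwap n k i) := by
  have full : ∀ i : Fin n, i.val / 2 ^ k = blockClass n k → i.val / 2 < n / 2 := by
    intro i hi
    by_contra h
    have h1 := Nat.div_le_div_right (c := 2 ^ (k - 1)) (Nat.le_of_not_lt h)
    rw [← div_succ, ← div_succ, Nat.sub_add_cancel (by omega), hi] at h1
    exact absurd (blockClass_lt hk) (by omega)
  have pair : ∀ i : Fin n, i.val / 2 ^ k = blockClass n k → (c.1 i).val / 2 = i.val / 2 := by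
    intro i hi
    by_contra hne
    have hci := (blockClass_stable c.2 hk i).mpr hi
    obtain ⟨σ, hσ, hfix, hm⟩ := exists_move hn i (c.1 i) (full _ hci) (Ne.symm hne)
    apply hm
    rw [← hc σ hσ i hi, hfix]
  have hzpair : ∀ i : Fin n, i.val / 2 ^ k = blockClass n k →
      (pairSwap n k i).val / 2 = i.val / 2 ∧ pairSwap n k i ≠ i := by
    intro i hi
    have hv := pairSwap_val (by omega) hk hi
    constructor
    · rw [hv]
      simpa using xor_div i.val 1 1 (by norm_num) 1 le_rfl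
    · intro e
      rw [e] at hv
      have := congrArg (i.val ^^^ ·) hv
      simp at this
  have htrans : ∀ i j : Fin n, i.val / 2 ^ k = blockClass n k → j.val / 2 ^ k = blockClass n k →
      ∃ σ ∈ evenPart n, σ.1 i = j := by
    intro i j hi hj
    have hd : i.val ^^^ j.val < 2 ^ k := by
      by_contra h
      have h1 : 0 < (i.val ^^^ j.val) / 2 ^ k := Nat.div_pos (Nat.le_of_not_lt h) (Nat.two_pow_pos k)
      rw [← Nat.shiftRight_eq_div_pow, Nat.shiftRight_xor_distrib, Nat.shiftRight_eq_div_pow,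
        Nat.shiftRight_eq_div_pow, hi, hj, Nat.xor_self] at h1
      exact lt_irrefl 0 h1
    let f : Perm (Fin n) := xorOn k (fun x => decide (x = blockClass n k)) (i.val ^^^ j.val)
    have hf : f i = j := by
      apply Fin.ext
      rw [xorOn_apply_pos hd (by rw [hi]; exact blockClass_lt hk) (by simp [hi]), ← Nat.xor_assoc,
        Nat.xor_self, Nat.zero_xor]
    rcases Int.units_eq_one_or (Equiv.Perm.sign f) with h | h
    · exact ⟨⟨f, xorOn_mem _ _ _⟩, h, hf⟩
    · obtain ⟨u, u', hu, hu', -, huj, -⟩ := exists_pair hn (j.val / 2) (j.val / 2)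
      refine ⟨⟨Equiv.swap u u' * f, mul_mem (swap_mem hu'.symm) (xorOn_mem _ _ _)⟩, ?_, ?_⟩
      · rw [mem_evenPart, map_mul, h, Equiv.Perm.sign_swap (Ne.symm hu)]; rfl
      · rw [Equiv.Perm.mul_apply, hf, swap_fix hu' (Ne.symm huj)]
  by_cases hall : ∀ i : Fin n, i.val / 2 ^ k = blockClass n k → c.1 i = i
  · exact Or.inl hall
  · right
    push Not at hall
    obtain ⟨i0, hi0, hne⟩ := hall
    have h0 : c.1 i0 = pairSwap n k i0 :=
      partner_eq (pair i0 hi0) (hzpair i0 hi0).1 hne (hzpair i0 hi0).2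
    intro j hj
    obtain ⟨σ, hσ, hσj⟩ := htrans i0 j hi0 hj
    have e := hc σ hσ i0 hi0
    rw [hσj, h0] at e
    rw [e]
    refine partner_eq ?_ (hzpair j hj).1 ?_ (hzpair j hj).2
    · rw [← hσj]
      exact (presPairs_of_mem σ.2 _ _).mp (hzpair i0 hi0).1
    · rw [← hσj]
      exact σ.1.injective.ne (hzpair i0 hi0).2

/-- The levels of the blocks of size at least four. -/
def bigLevels (n : ℕ) : Finset ℕ :=
  (Finset.range (n + 1)).filter fun k => 2 ≤ k ∧ n / 2 ^ k % 2 = 1

theorem mem_bigLevels {k : ℕ} : k ∈ bigLevels n ↔ 2 ≤ k ∧ n / 2 ^ k % 2 = 1 := by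
  rw [bigLevels, Finset.mem_filter, Finset.mem_range]
  refine ⟨fun h => h.2, fun h => ⟨?_, h⟩⟩
  by_contra hc
  have : n < 2 ^ k := lt_of_lt_of_le Nat.lt_two_pow_self (Nat.pow_le_pow_right (by norm_num)
    (by omega : n ≤ k))
  rw [Nat.div_eq_of_lt this] at h
  omega

theorem exists_level (i : Fin n) (hi : i.val < 4 * (n / 4)) :
    ∃ k ∈ bigLevels n, i.val / 2 ^ k = blockClass n k := by
  obtain ⟨k, hk⟩ := exists_inBlock i
  refine ⟨k, mem_bigLevels.mpr ⟨?_, hk.2⟩, (inBlock_iff_class hk.2 i).mp hk⟩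
  by_contra hc
  have h1 := ((inBlock_iff k i).mp hk).2
  have : k = 0 ∨ k = 1 := by omega
  rcases this with rfl | rfl
  · simp at h1
    omega
  · simp at h1
    omega

theorem lt_of_level {k : ℕ} (hk : k ∈ bigLevels n) {i : Fin n}
    (hi : i.val / 2 ^ k = blockClass n k) : i.val < 4 * (n / 4) := by
  obtain ⟨h2, hk'⟩ := mem_bigLevels.mp hk
  have hlt : i.val / 2 ^ k < n / 2 ^ k := hi ▸ blockClass_lt hk'
  obtain ⟨d, rfl⟩ := Nat.exists_eq_add_of_le h2
  rw [pow_add, ← Nat.div_div_eq_div_mul, ← Nat.div_div_eq_div_mul] at hlt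
  by_contra hc
  have := Nat.div_le_div_right (c := 2 ^ d) (show n / 2 ^ 2 ≤ i.val / 2 ^ 2 by norm_num; omega)
  omega

theorem exists_point {k : ℕ} (hk : n / 2 ^ k % 2 = 1) :
    ∃ i : Fin n, i.val / 2 ^ k = blockClass n k := by
  have h1 : (blockClass n k + 1) * 2 ^ k ≤ n := by
    rw [blockClass_add_one hk]; exact Nat.div_mul_le_self _ _
  refine ⟨⟨blockClass n k * 2 ^ k, ?_⟩, Nat.mul_div_cancel _ (Nat.two_pow_pos k)⟩
  nlinarith [Nat.two_pow_pos k]

theorem class_unique {i : Fin n} {k l : ℕ} (hk : k ∈ bigLevels n) (hl : l ∈ bigLevels n)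
    (h1 : i.val / 2 ^ k = blockClass n k) (h2 : i.val / 2 ^ l = blockClass n l) : k = l :=
  inBlock_unique ((inBlock_iff_class (mem_bigLevels.mp hk).2 i).mpr h1)
    ((inBlock_iff_class (mem_bigLevels.mp hl).2 i).mpr h2)

theorem proj_self {k : ℕ} (hk : n / 2 ^ k % 2 = 1) (σ : ↥(dyadic n)) {i : Fin n}
    (hi : i.val / 2 ^ k = blockClass n k) : proj k hk σ i = σ.1 i := by
  rw [proj_apply, if_pos hi]

/-- An element agreeing with `1` outside the big blocks is the product of its projections. -/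
theorem mem_of_proj (H : Subgroup ↥(dyadic n)) :
    ∀ (B : Finset ℕ), B ⊆ bigLevels n → ∀ σ : ↥(dyadic n),
      (∀ i : Fin n, σ.1 i ≠ i → ∃ k ∈ B, i.val / 2 ^ k = blockClass n k) →
      (∀ k, ∀ hk : n / 2 ^ k % 2 = 1, k ∈ B → (⟨proj k hk σ, proj_mem k hk σ⟩ : ↥(dyadic n)) ∈ H) →
      σ ∈ H := by
  intro B
  induction B using Finset.induction_on with
  | empty =>
    intro _ σ hs _
    have : σ = 1 := Subtype.ext (Equiv.ext fun i => by
      by_contra h
      obtain ⟨k, hk, -⟩ := hs i h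
      simp at hk)
    rw [this]; exact one_mem _
  | @insert k B hkB ih =>
    intro hsub σ hs hH
    have hkb := hsub (Finset.mem_insert_self k B)
    have hk := (mem_bigLevels.mp hkb).2
    set p : ↥(dyadic n) := ⟨proj k hk σ, proj_mem k hk σ⟩ with hp
    have hpi : ∀ i : Fin n, i.val / 2 ^ k = blockClass n k → (p⁻¹ * σ).1 i = i := fun i hi => by
      show (proj k hk σ)⁻¹ (σ.1 i) = i
      rw [Equiv.Perm.inv_eq_iff_eq, proj_self hk σ hi]
    have hpo : ∀ i : Fin n, i.val / 2 ^ k ≠ blockClass n k → (p⁻¹ * σ).1 i = σ.1 i := fun i hi => by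
      show (proj k hk σ)⁻¹ (σ.1 i) = σ.1 i
      rw [Equiv.Perm.inv_eq_iff_eq, proj_apply, if_neg]
      exact fun e => hi ((blockClass_stable σ.2 hk i).mp e)
    have h2 : p⁻¹ * σ ∈ H := by
      refine ih (fun x hx => hsub (Finset.mem_insert_of_mem hx)) _ (fun i hi => ?_) (fun l hl hlB => ?_)
      · by_cases e : i.val / 2 ^ k = blockClass n k
        · exact absurd (hpi i e) hi
        · rw [hpo i e] at hi
          obtain ⟨l, hl, hl'⟩ := hs i hi
          rcases Finset.mem_insert.mp hl with rfl | hl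
          · exact absurd hl' e
          · exact ⟨l, hl, hl'⟩
      · have e : (⟨proj l hl (p⁻¹ * σ), proj_mem l hl _⟩ : ↥(dyadic n)) =
            ⟨proj l hl σ, proj_mem l hl σ⟩ := by
          refine Subtype.ext (Equiv.ext fun i => ?_)
          show proj l hl (p⁻¹ * σ) i = proj l hl σ i
          rw [proj_apply, proj_apply]
          split_ifs with hi
          · refine hpo i fun e => hkB ?_
            have := class_unique hkb (hsub (Finset.mem_insert_of_mem hlB)) e hi
            rwa [this]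
          · rfl
        rw [e]
        exact hH l hl (Finset.mem_insert_of_mem hlB)
    have := H.mul_mem (hH k hk (Finset.mem_insert_self k B)) h2
    rwa [← hp, mul_inv_cancel_left] at this

theorem eq_one_of_fix {σ : ↥(dyadic n)} (hσ : σ ∈ evenPart n)
    (h : ∀ i : Fin n, i.val < 4 * (n / 4) → σ.1 i = i) : σ = 1 := by
  refine Subtype.ext (Equiv.ext fun i => ?_)
  by_contra hne
  replace hne : σ.1 i ≠ i := hne
  have hi : 4 * (n / 4) ≤ i.val := by
    by_contra hc
    exact hne (h i (by omega))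
  have hp := presPairs_of_mem σ.2
  have hfull : i.val / 2 < n / 2 := by
    by_contra hc
    exact hne (apply_last hp i hc)
  have hfull' := (presPairs_lt_half hp i).mpr hfull
  have hge : 4 * (n / 4) ≤ (σ.1 i).val := by
    by_contra hc
    exact hne (σ.1.injective (h _ (by omega)))
  have hji : (σ.1 i).val / 2 = i.val / 2 := by omega
  have hjj : σ.1 (σ.1 i) = i := partner_eq ((hp _ _).mp hji) hji.symm (σ.1.injective.ne hne) (Ne.symm hne)
  have hs : σ.1 = Equiv.swap i (σ.1 i) := by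
    refine Equiv.ext fun x => ?_
    rcases eq_or_ne x i with rfl | hxi
    · rw [Equiv.swap_apply_left]
    rcases eq_or_ne x (σ.1 i) with rfl | hxj
    · rw [Equiv.swap_apply_right, hjj]
    rw [Equiv.swap_apply_of_ne_of_ne hxi hxj]
    rcases lt_or_ge x.val (4 * (n / 4)) with hx | hx
    · exact h x hx
    · refine apply_last hp x fun hc => ?_
      have : x.val ≠ i.val := fun e => hxi (Fin.ext e)
      have : x.val ≠ (σ.1 i).val := fun e => hxj (Fin.ext e)
      have : (σ.1 i).val ≠ i.val := fun e => hne (Fin.ext e)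
      omega
  have := mem_evenPart.mp hσ
  rw [hs, Equiv.Perm.sign_swap (Ne.symm hne)] at this
  exact absurd this (by decide)

theorem single_level {r : ℕ} (hr : 4 * (n / 4) = 2 ^ r) (h4 : 4 ≤ n) :
    r ∈ bigLevels n ∧ ∀ i : Fin n, i.val < 4 * (n / 4) → i.val / 2 ^ r = blockClass n r := by
  have h2 : 2 ≤ r := by
    by_contra hc
    have := Nat.pow_le_pow_right (n := 2) (by norm_num) (show r ≤ 1 by omega)
    norm_num at this
    omega
  have hn1 : n / 2 ^ r = 1 := by
    obtain ⟨d, rfl⟩ := Nat.exists_eq_add_of_le h2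
    have := Nat.two_pow_pos d
    rw [pow_add] at hr ⊢
    norm_num at hr ⊢
    refine Nat.div_eq_of_lt_le (by omega) (by omega)
  refine ⟨mem_bigLevels.mpr ⟨h2, by rw [hn1]⟩, fun i hi => ?_⟩
  rw [blockClass, hn1, Nat.div_eq_of_lt (by omega)]

/-- With one big block the even part is indecomposable. -/
theorem not_dec_single (hn : 6 ≤ n) {r : ℕ} (hr : 4 * (n / 4) = 2 ^ r) : ¬ Dec (evenPart n) := by
  obtain ⟨hrB, hblk⟩ := single_level hr (by omega)
  obtain ⟨hr2, hbit⟩ := mem_bigLevels.mp hrB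
  rintro ⟨S₁, S₂, h1, h2, hle1, hle2, hc, hi, hs⟩
  have central : ∀ (X Y : Subgroup ↥(dyadic n)), X ≠ ⊥ → X ⊔ Y = evenPart n →
      (∀ a ∈ X, ∀ b ∈ Y, a * b = b * a) →
      ∃ c ∈ X, c ≠ 1 ∧ c ∈ evenPart n ∧ ∀ s ∈ evenPart n, c * s = s * c := by
    intro X Y hX hXY hcomm
    have : Nontrivial ↥X := (Subgroup.nontrivial_iff_ne_bot X).mpr hX
    have : Group.IsNilpotent ↥X := ((isPGroup_dyadic n).to_subgroup X).isNilpotent
    obtain ⟨⟨c, hc'⟩, hne⟩ := Subgroup.ne_bot_iff_exists_ne_one.mp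
      (Group.IsNilpotent.center_ne_bot ↥X)
    have hc1 : c ≠ 1 := fun e => hne (Subtype.ext e)
    refine ⟨c.1, c.2, fun e => hc1 (Subtype.ext e), hXY ▸ Subgroup.mem_sup_left c.2, ?_⟩
    have hle : X ⊔ Y ≤ Subgroup.centralizer {c.1} := by
      refine sup_le ?_ ?_ <;> intro x hx <;> rw [Subgroup.mem_centralizer_iff] <;> rintro _ rfl
      · exact (congrArg Subtype.val (Subgroup.mem_center_iff.mp hc' ⟨x, hx⟩)).symm
      · exact hcomm _ c.2 x hx
    intro s hs'
    exact Subgroup.mem_centralizer_iff.mp (hle (hXY.symm ▸ hs')) _ rfl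
  obtain ⟨c, hcX, hc1, hcE, hcc⟩ := central S₁ S₂ h1 hs hc
  obtain ⟨d, hdX, hd1, hdE, hdd⟩ := central S₂ S₁ h2 (by rw [sup_comm]; exact hs)
    (fun a ha b hb => (hc b hb a ha).symm)
  have onblock : ∀ e : ↥(dyadic n), e ∈ evenPart n → e ≠ 1 → (∀ s ∈ evenPart n, e * s = s * e) →
      ∀ i : Fin n, i.val < 4 * (n / 4) → e.1 i = pairSwap n r i := by
    intro e he he1 hee i hi'
    rcases central_on_block hn hr2 hbit e (fun σ hσ j _ =>
        congrArg (fun x : ↥(dyadic n) => x.1 j) (hee σ hσ)) with h | h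
    · exact absurd (eq_one_of_fix he fun j hj => h j (hblk j hj)) he1
    · exact h i (hblk i hi')
  have hcd : c⁻¹ * d = 1 := eq_one_of_fix (mul_mem (inv_mem hcE) hdE) fun i hi' => by
    show c.1⁻¹ (d.1 i) = i
    rw [Equiv.Perm.inv_eq_iff_eq, onblock c hcE hc1 hcc i hi', onblock d hdE hd1 hdd i hi']
  apply hc1
  have : c ∈ S₁ ⊓ S₂ := ⟨hcX, inv_mul_eq_one.mp hcd ▸ hdX⟩
  rwa [hi, Subgroup.mem_bot] at this

/-- A pair outside a given big block. -/
theorem exists_outside {k : ℕ} (hk : k ∈ bigLevels n) (hout : ∃ i : Fin n, i.val / 2 < n / 2 ∧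
      i.val / 2 ^ k ≠ blockClass n k) :
    ∃ τ : ↥(dyadic n), Equiv.Perm.sign τ.1 = -1 ∧
      ∀ i : Fin n, i.val / 2 ^ k = blockClass n k → τ.1 i = i := by
  obtain ⟨u, hu, huk⟩ := hout
  obtain ⟨u', hne, hu'⟩ := (lt_half_iff u).mp hu
  refine ⟨⟨_, swap_mem hu'.symm⟩, Equiv.Perm.sign_swap (Ne.symm hne), fun i hi => ?_⟩
  refine swap_fix hu' fun e => huk ?_
  rw [← hi]
  exact div_eq_of_div_eq (k := 1) (by have := (mem_bigLevels.mp hk).1; omega) (by simpa using e.symm)

theorem commute_of_disjoint {a b : ↥(dyadic n)} {k : ℕ} (hk : n / 2 ^ k % 2 = 1)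
    (ha : ∀ i : Fin n, i.val / 2 ^ k ≠ blockClass n k → a.1 i = i)
    (hb : ∀ i : Fin n, i.val / 2 ^ k = blockClass n k → b.1 i = i) : a * b = b * a := by
  refine Subtype.ext (Equiv.ext fun i => ?_)
  show a.1 (b.1 i) = b.1 (a.1 i)
  by_cases hi : i.val / 2 ^ k = blockClass n k
  · rw [hb i hi, hb _ ((blockClass_stable a.2 hk i).mpr hi)]
  · rw [ha i hi, ha]
    exact fun e => hi ((blockClass_stable b.2 hk i).mp e)

/-- With several big blocks and no extra pair the even part is indecomposable. -/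
theorem not_dec_multi (hn : 6 ≤ n) (h01 : n % 4 < 2) (hno : ∀ r : ℕ, 4 * (n / 4) ≠ 2 ^ r) :
    ¬ Dec (evenPart n) := by
  classical
  rintro ⟨S₁, S₂, h1, h2, hle1, hle2, hc, hi, hs⟩
  have hout : ∀ k ∈ bigLevels n, ∃ i : Fin n, i.val / 2 < n / 2 ∧ i.val / 2 ^ k ≠ blockClass n k := by
    intro k hk
    by_contra hcon
    push Not at hcon
    obtain ⟨hk2, hbit⟩ := mem_bigLevels.mp hk
    apply hno k
    have h0 := hcon ⟨0, by omega⟩ (by dsimp only; omega)
    have hl := hcon ⟨4 * (n / 4) - 1, by omega⟩ (by dsimp only; omega)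
    simp only [Nat.zero_div] at h0
    have h1' := blockClass_add_one hbit
    rw [← h0] at h1'
    dsimp only at hl
    rw [← h0] at hl
    have hlt : 4 * (n / 4) - 1 < 2 ^ k := by
      by_contra hc'
      have := Nat.div_pos (Nat.le_of_not_lt hc') (Nat.two_pow_pos k)
      omega
    obtain ⟨d, rfl⟩ := Nat.exists_eq_add_of_le hk2
    rw [pow_add] at hlt h1' ⊢
    norm_num at hlt h1' ⊢
    have := Nat.div_mul_le_self n (4 * 2 ^ d)
    rw [← h1', one_mul] at this
    omega
  have supp : ∀ (σ : ↥(dyadic n)) (i : Fin n), σ.1 i ≠ i →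
      ∃ k ∈ bigLevels n, i.val / 2 ^ k = blockClass n k := by
    intro σ i hne
    refine exists_level i ?_
    by_contra hc'
    refine hne (apply_last (presPairs_of_mem σ.2) i ?_)
    omega
  let Central : Subgroup ↥(dyadic n) → ℕ → Prop := fun X k => ∀ hk : n / 2 ^ k % 2 = 1,
    ∀ x ∈ X, proj k hk x = 1 ∨ proj k hk x = pairSwap n k
  have dich : ∀ k ∈ bigLevels n, Central S₁ k ∨ Central S₂ k := by
    intro k hkB
    obtain ⟨hk2, hk⟩ := mem_bigLevels.mp hkB
    obtain ⟨h, rfl⟩ : ∃ h, k = h + 1 := ⟨k - 1, by omega⟩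
    obtain ⟨τ, hτs, hτf⟩ := exists_outside hkB (hout _ hkB)
    have hτ1 : proj (h + 1) hk τ = 1 := Equiv.ext fun i => by
      rw [proj_apply]
      split_ifs with e
      · exact hτf i e
      · rfl
    have hAB : S₁.map (proj (h + 1) hk) ⊔ S₂.map (proj (h + 1) hk) = blockGroup (h + 1) hk := by
      rw [← Subgroup.map_sup, hs]
      refine le_antisymm (Subgroup.map_le_range _ _) ?_
      rintro _ ⟨σ, rfl⟩
      rcases Int.units_eq_one_or (Equiv.Perm.sign σ.1) with e | e
      · exact ⟨σ, e, rfl⟩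
      · refine ⟨σ * τ, ?_, by rw [map_mul, hτ1, mul_one]⟩
        show Equiv.Perm.sign (σ.1 * τ.1) = 1
        rw [map_mul, e, hτs]; rfl
    have key : ∀ X : Subgroup ↥(dyadic n),
        (∀ a ∈ X.map (proj (h + 1) hk), ∀ w ∈ blockGroup (h + 1) hk, a * w = w * a) →
        Central X (h + 1) := by
      intro X hX hk' x hx
      have := central_on_block hn hk2 hk ⟨_, proj_mem _ hk x⟩ (fun σ hσ i hi' => by
        have e := congrArg (fun f : Perm (Fin n) => f i) (hX _ ⟨x, hx, rfl⟩ _ ⟨σ, rfl⟩)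
        simp only [Equiv.Perm.mul_apply] at e
        rw [proj_self hk σ hi', proj_self hk σ ((blockClass_stable (proj_mem _ hk x) hk i).mpr hi')] at e
        exact e)
      rcases this with e | e
      · left
        refine Equiv.ext fun i => ?_
        by_cases hi' : i.val / 2 ^ (h + 1) = blockClass n (h + 1)
        · exact e i hi'
        · show proj (h + 1) hk x i = i
          rw [proj_apply, if_neg hi']
      · right
        refine Equiv.ext fun i => ?_
        by_cases hi' : i.val / 2 ^ (h + 1) = blockClass n (h + 1)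
        · exact e i hi'
        · show proj (h + 1) hk x i = _
          rw [proj_apply, if_neg hi', pairSwap_fix hi']
    rcases block_factor_central (by omega) hk _ _ hAB (by
        rintro _ ⟨a, ha, rfl⟩ _ ⟨b, hb, rfl⟩
        rw [← map_mul, ← map_mul, hc a ha b hb]) with e | e
    · exact Or.inl (key _ e)
    · exact Or.inr (key _ e)
  have hzC : ∀ k, ∀ _ : k ∈ bigLevels n, (⟨pairSwap n k, xorOn_mem _ _ _⟩ : ↥(dyadic n)) ∈
      ⁅evenPart n, evenPart n⁆ := by
    intro k hkB
    obtain ⟨hk2, hk⟩ := mem_bigLevels.mp hkB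
    obtain ⟨h, rfl⟩ : ∃ h, k = h + 1 := ⟨k - 1, by omega⟩
    obtain ⟨τ, hτs, hτf⟩ := exists_outside hkB (hout _ hkB)
    let fix0 : ↥(dyadic n) → ↥(dyadic n) := fun g => if Equiv.Perm.sign g.1 = 1 then 1 else τ
    let l : ↥(dyadic n) := ⟨_, (mem_blockGroup.mp (leftPairSwap_mem_blockGroup h hk)).1⟩
    let t : ↥(dyadic n) := ⟨_, (mem_blockGroup.mp (halfSwap_mem_blockGroup h hk)).1⟩
    have hl := (mem_blockGroup.mp (leftPairSwap_mem_blockGroup (n := n) h hk)).2
    have ht := (mem_blockGroup.mp (halfSwap_mem_blockGroup (n := n) h hk)).2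
    have ev : ∀ g : ↥(dyadic n), g * fix0 g ∈ evenPart n := by
      intro g
      rcases Int.units_eq_one_or (Equiv.Perm.sign g.1) with e | e
      · simp only [fix0, if_pos e, mul_one]
        exact e
      · simp only [fix0, if_neg (by rw [e]; decide : ¬ Equiv.Perm.sign g.1 = 1)]
        show Equiv.Perm.sign (g.1 * τ.1) = 1
        rw [map_mul, e, hτs]; rfl
    have com : ∀ g : ↥(dyadic n), (∀ i : Fin n, i.val / 2 ^ (h + 1) ≠ blockClass n (h + 1) → g.1 i = i) →
        ∀ x, g * fix0 x = fix0 x * g := by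
      intro g hg x
      dsimp only [fix0]
      split_ifs
      · rw [mul_one, one_mul]
      · exact commute_of_disjoint hk hg hτf
    have cc : ∀ x y, fix0 x * fix0 y = fix0 y * fix0 x := by
      intro x y
      dsimp only [fix0]
      split_ifs <;> simp
    have e1 := com l hl l
    have e2 := com l hl t
    have e3 := com t ht l
    have e4 := com t ht t
    have e5 := cc l t
    have hmem := Subgroup.commutator_mem_commutator (ev l) (ev t)
    have heq : ⁅l * fix0 l, t * fix0 t⁆ = ⁅l, t⁆ := by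
      simp only [commutatorElement_def, mul_inv_rev]
      calc l * fix0 l * (t * fix0 t) * ((fix0 l)⁻¹ * l⁻¹) * ((fix0 t)⁻¹ * t⁻¹)
          = l * (fix0 l * t) * fix0 t * (fix0 l)⁻¹ * l⁻¹ * (fix0 t)⁻¹ * t⁻¹ := by group
        _ = l * (t * fix0 l) * fix0 t * (fix0 l)⁻¹ * l⁻¹ * (fix0 t)⁻¹ * t⁻¹ := by rw [e3]
        _ = l * t * (fix0 l * fix0 t) * (fix0 l)⁻¹ * l⁻¹ * (fix0 t)⁻¹ * t⁻¹ := by group
        _ = l * t * (fix0 t * fix0 l) * (fix0 l)⁻¹ * l⁻¹ * (fix0 t)⁻¹ * t⁻¹ := by rw [e5]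
        _ = l * t * l⁻¹ * ((l * fix0 t) * l⁻¹) * (fix0 t)⁻¹ * t⁻¹ := by group
        _ = l * t * l⁻¹ * ((fix0 t * l) * l⁻¹) * (fix0 t)⁻¹ * t⁻¹ := by rw [e2]
        _ = l * t * l⁻¹ * t⁻¹ := by group
    rw [heq] at hmem
    have hz : ⁅l, t⁆ = ⟨pairSwap n (h + 1), xorOn_mem _ _ _⟩ :=
      Subtype.ext (commutator_eq_pairSwap (n := n) (show 1 ≤ h by omega) hk)
    rwa [hz] at hmem
  have hzsign : ∀ k, k ∈ bigLevels n → Equiv.Perm.sign (pairSwap n k) = 1 := by
    intro k hk
    have := hzC k hk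
    have hle : ⁅evenPart n, evenPart n⁆ ≤ evenPart n :=
      Subgroup.commutator_le.mpr fun a ha b hb => by
        rw [commutatorElement_def]
        exact mul_mem (mul_mem (mul_mem ha hb) (inv_mem ha)) (inv_mem hb)
    exact hle this
  by_cases hT2 : ∀ k ∈ bigLevels n, Central S₂ k
  · refine h2 ?_
    rw [eq_bot_iff]
    intro x hx
    have hx' : x ∈ ⁅evenPart n, evenPart n⁆ := by
      refine mem_of_proj _ (bigLevels n) (Finset.Subset.refl _) x (supp x) fun k hk hkB => ?_
      rcases hT2 k hkB hk x hx with e | e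
      · simp only [e]; exact one_mem _
      · simp only [e]; exact hzC k hkB
    have hle : ⁅evenPart n, evenPart n⁆ ≤ S₁ := by
      have hnorm : ∀ g ∈ evenPart n, g ∈ Subgroup.normalizer (S₁ : Set ↥(dyadic n)) := by
        rw [← hs]
        exact sup_le (Subgroup.le_normalizer) (le_trans (fun y hy =>
          Subgroup.mem_centralizer_iff.mpr fun z hz => hc z hz y hy) (Subgroup.centralizer_le_normalizer (S₁ : Set ↥(dyadic n))))
      rw [Subgroup.commutator_le]
      intro a ha b hb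
      obtain ⟨a1, ha1, a2, ha2, rfl⟩ : ∃ a1 ∈ S₁, ∃ a2 ∈ S₂, a1 * a2 = a := by
        rw [← hs] at ha
        have hle' : S₁ ⊔ S₂ ≤
            { carrier := {y | ∃ a1 ∈ S₁, ∃ a2 ∈ S₂, a1 * a2 = y}
              one_mem' := ⟨1, one_mem _, 1, one_mem _, one_mul _⟩
              mul_mem' := by
                rintro _ _ ⟨p, hp, q, hq, rfl⟩ ⟨p', hp', q', hq', rfl⟩
                exact ⟨p * p', mul_mem hp hp', q * q', mul_mem hq hq', by
                  rw [mul_assoc p p', ← mul_assoc p' q, hc p' hp' q hq]; group⟩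
              inv_mem' := by
                rintro _ ⟨p, hp, q, hq, rfl⟩
                exact ⟨p⁻¹, inv_mem hp, q⁻¹, inv_mem hq, by
                  rw [mul_inv_rev, hc _ (inv_mem hp) _ (inv_mem hq)]⟩ } :=
          sup_le (fun y hy => ⟨y, hy, 1, one_mem _, mul_one _⟩)
            (fun y hy => ⟨1, one_mem _, y, hy, one_mul _⟩)
        exact hle' ha
      -- the `S₂`-part is abelian: it is sent to elements of order two in every block
      have hcomm2 : ∀ p ∈ S₂, ∀ q ∈ S₂, p * q = q * p := by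
        intro p hp q hq
        refine eq_of_mul_inv_eq_one ?_
        have : p * q * (q * p)⁻¹ ∈ (⊥ : Subgroup ↥(dyadic n)) := by
          refine mem_of_proj ⊥ (bigLevels n) (Finset.Subset.refl _) _ (supp _) fun k hk hkB => ?_
          rw [Subgroup.mem_bot]
          refine Subtype.ext ?_
          show proj k hk _ = 1
          rw [map_mul, map_inv, map_mul, map_mul]
          rcases hT2 k hkB hk p hp with e | e <;> rcases hT2 k hkB hk q hq with e' | e' <;>
            rw [e, e'] <;> group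
        exact Subgroup.mem_bot.mp this
      rw [← hs] at hb
      have hcb : ∀ y ∈ S₁ ⊔ S₂, a2 * y = y * a2 := by
        intro y hy
        have hle2' : S₁ ⊔ S₂ ≤ Subgroup.centralizer {a2} := by
          refine sup_le ?_ ?_ <;> intro z hz <;> rw [Subgroup.mem_centralizer_iff] <;> intro w hw <;>
            rw [Set.mem_singleton_iff.mp hw]
          · exact (hc z hz a2 ha2).symm
          · exact hcomm2 a2 ha2 z hz
        exact Subgroup.mem_centralizer_iff.mp (hle2' hy) a2 rfl
      have e : ⁅a1 * a2, b⁆ = a1 * (b * a1⁻¹ * b⁻¹) := by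
        rw [commutatorElement_def, mul_inv_rev]
        calc a1 * a2 * b * (a2⁻¹ * a1⁻¹) * b⁻¹ = a1 * (a2 * b) * a2⁻¹ * a1⁻¹ * b⁻¹ := by group
          _ = a1 * (b * a2) * a2⁻¹ * a1⁻¹ * b⁻¹ := by rw [hcb b hb]
          _ = _ := by group
      rw [e]
      exact mul_mem ha1 ((Subgroup.mem_normalizer_iff.mp (hnorm b (hs ▸ hb)) _).mp (inv_mem ha1))
    have : x ∈ S₁ ⊓ S₂ := ⟨hle hx', hx⟩
    rwa [hi] at this
  by_cases hT1 : ∀ k ∈ bigLevels n, Central S₁ k
  · refine h1 ?_
    rw [eq_bot_iff]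
    intro x hx
    have hx' : x ∈ ⁅evenPart n, evenPart n⁆ := by
      refine mem_of_proj _ (bigLevels n) (Finset.Subset.refl _) x (supp x) fun k hk hkB => ?_
      rcases hT1 k hkB hk x hx with e | e
      · simp only [e]; exact one_mem _
      · simp only [e]; exact hzC k hkB
    have hle : ⁅evenPart n, evenPart n⁆ ≤ S₂ := by
      rw [Subgroup.commutator_le]
      intro a ha b hb
      have hcomm1 : ∀ p ∈ S₁, ∀ q ∈ S₁, p * q = q * p := by
        intro p hp q hq
        refine eq_of_mul_inv_eq_one ?_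
        have : p * q * (q * p)⁻¹ ∈ (⊥ : Subgroup ↥(dyadic n)) := by
          refine mem_of_proj ⊥ (bigLevels n) (Finset.Subset.refl _) _ (supp _) fun k hk hkB => ?_
          rw [Subgroup.mem_bot]
          refine Subtype.ext ?_
          show proj k hk _ = 1
          rw [map_mul, map_inv, map_mul, map_mul]
          rcases hT1 k hkB hk p hp with e | e <;> rcases hT1 k hkB hk q hq with e' | e' <;>
            rw [e, e'] <;> group
        exact Subgroup.mem_bot.mp this
      -- `S₂` is normal with abelian quotient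
      have hcent : ∀ p ∈ S₁, ∀ y ∈ evenPart n, p * y = y * p := by
        intro p hp y hy
        have hle1' : S₁ ⊔ S₂ ≤ Subgroup.centralizer {p} := by
          refine sup_le ?_ ?_ <;> intro z hz <;> rw [Subgroup.mem_centralizer_iff] <;> intro w hw <;>
            rw [Set.mem_singleton_iff.mp hw]
          · exact hcomm1 p hp z hz
          · exact hc p hp z hz
        exact Subgroup.mem_centralizer_iff.mp (hle1' (hs.symm ▸ hy)) p rfl
      obtain ⟨a2, ha2, a1, ha1, rfl⟩ : ∃ a2 ∈ S₂, ∃ a1 ∈ S₁, a2 * a1 = a := by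
        rw [← hs] at ha
        have hle' : S₁ ⊔ S₂ ≤
            { carrier := {y | ∃ a2 ∈ S₂, ∃ a1 ∈ S₁, a2 * a1 = y}
              one_mem' := ⟨1, one_mem _, 1, one_mem _, one_mul _⟩
              mul_mem' := by
                rintro _ _ ⟨p, hp, q, hq, rfl⟩ ⟨p', hp', q', hq', rfl⟩
                exact ⟨p * p', mul_mem hp hp', q * q', mul_mem hq hq', by
                  rw [mul_assoc p p', ← mul_assoc p' q, ← hc q hq p' hp']; group⟩
              inv_mem' := by
                rintro _ ⟨p, hp, q, hq, rfl⟩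
                exact ⟨p⁻¹, inv_mem hp, q⁻¹, inv_mem hq, by
                  rw [mul_inv_rev, hc _ (inv_mem hq) _ (inv_mem hp)]⟩ } :=
          sup_le (fun y hy => ⟨1, one_mem _, y, hy, one_mul _⟩)
            (fun y hy => ⟨y, hy, 1, one_mem _, mul_one _⟩)
        exact hle' ha
      have hnorm : b ∈ Subgroup.normalizer (S₂ : Set ↥(dyadic n)) := by
        have hh : S₁ ⊔ S₂ ≤ Subgroup.normalizer (S₂ : Set ↥(dyadic n)) :=
          sup_le (le_trans (fun y hy => Subgroup.mem_centralizer_iff.mpr fun z hz =>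
            (hc y hy z hz).symm) (Subgroup.centralizer_le_normalizer (S₂ : Set ↥(dyadic n))))
            Subgroup.le_normalizer
        exact hh (hs.symm ▸ hb)
      have e : ⁅a2 * a1, b⁆ = a2 * (b * a2⁻¹ * b⁻¹) := by
        rw [commutatorElement_def, mul_inv_rev]
        calc a2 * a1 * b * (a1⁻¹ * a2⁻¹) * b⁻¹ = a2 * (a1 * b) * a1⁻¹ * a2⁻¹ * b⁻¹ := by group
          _ = a2 * (b * a1) * a1⁻¹ * a2⁻¹ * b⁻¹ := by rw [hcent a1 ha1 b hb]
          _ = _ := by group
      rw [e]
      exact mul_mem ha2 ((Subgroup.mem_normalizer_iff.mp hnorm _).mp (inv_mem ha2))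
    have : x ∈ S₁ ⊓ S₂ := ⟨hx, hle hx'⟩
    rwa [hi] at this
  push Not at hT2 hT1
  obtain ⟨k2, hk2B, hk2⟩ := hT2
  obtain ⟨k1, hk1B, hk1⟩ := hT1
  -- `k2` is a block where `S₁` is central, `k1` one where `S₂` is central
  have T : ∀ k ∈ bigLevels n, ¬ Central S₂ k → Central S₁ k := fun k hk h => (dich k hk).resolve_right h
  let B1 := (bigLevels n).filter fun k => Central S₂ k
  let φ : ↥(dyadic n) →* ℤˣ :=
    { toFun := fun σ => ∏ k ∈ B1.attach, Equiv.Perm.sign
        (proj k.1 ((mem_bigLevels.mp (Finset.mem_filter.mp k.2).1).2) σ)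
      map_one' := by simp
      map_mul' := fun σ τ => by simp [Finset.prod_mul_distrib] }
  have hsign : ∀ σ : ↥(dyadic n),
      (∀ k ∈ bigLevels n, k ∉ B1 → ∀ hk : n / 2 ^ k % 2 = 1, Equiv.Perm.sign (proj k hk σ) = 1) →
      φ σ = Equiv.Perm.sign σ.1 := by
    intro σ hσ
    let H : Subgroup ↥(dyadic n) :=
      { carrier := {x | φ x = Equiv.Perm.sign x.1}
        one_mem' := by simp
        mul_mem' := fun {a b} ha hb => by
          simp only [Set.mem_setOf_eq] at ha hb ⊢
          rw [map_mul, ha, hb, Subgroup.coe_mul, map_mul]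
        inv_mem' := fun {a} ha => by
          simp only [Set.mem_setOf_eq] at ha ⊢
          rw [map_inv, ha, Subgroup.coe_inv, map_inv] }
    refine mem_of_proj H (bigLevels n) (Finset.Subset.refl _) σ (supp σ) fun k hk hkB => ?_
    show φ _ = Equiv.Perm.sign (proj k hk σ)
    have hproj : ∀ l, l ∈ bigLevels n → ∀ hl : n / 2 ^ l % 2 = 1,
        proj l hl ⟨proj k hk σ, proj_mem k hk σ⟩ = if l = k then proj k hk σ else 1 := by
      intro l hlB hl
      refine Equiv.ext fun i => ?_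
      rw [proj_apply]
      show (if _ then proj k hk σ i else i) = _
      rw [proj_apply]
      by_cases hlk : l = k
      · subst hlk
        rw [if_pos rfl, proj_apply]
        split_ifs <;> rfl
      · rw [if_neg hlk]
        split_ifs with a b
        · exact absurd (class_unique hlB hkB a b) hlk
        · rfl
        · rfl
    show (∏ l ∈ B1.attach, _) = _
    by_cases hk1' : k ∈ B1
    · rw [Finset.prod_eq_single ⟨k, hk1'⟩]
      · rw [hproj k hkB, if_pos rfl]
      · rintro ⟨l, hl⟩ - hne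
        rw [hproj l (Finset.mem_filter.mp hl).1, if_neg (fun e => hne (Subtype.ext e)), map_one]
      · intro h; exact absurd (Finset.mem_attach _ _) h
    · rw [hσ k hkB hk1' hk]
      refine Finset.prod_eq_one fun l _ => ?_
      rw [hproj l.1 (Finset.mem_filter.mp l.2).1, if_neg (fun e : l.1 = k => hk1' (e ▸ l.2)), map_one]
  have hφ : ∀ s ∈ evenPart n, φ s = 1 := by
    have hle : S₁ ⊔ S₂ ≤ φ.ker := by
      refine sup_le (fun x hx => ?_) (fun x hx => ?_)
      · rw [MonoidHom.mem_ker, hsign x fun k hkB hkn hk => ?_]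
        · exact hle1 hx
        · rcases T k hkB (fun h => hkn (Finset.mem_filter.mpr ⟨hkB, h⟩)) hk x hx with e | e
          · rw [e, map_one]
          · rw [e]; exact hzsign k hkB
      · rw [MonoidHom.mem_ker]
        show (∏ l ∈ B1.attach, _) = _
        refine Finset.prod_eq_one fun l _ => ?_
        obtain ⟨hlB, hl⟩ := Finset.mem_filter.mp l.2
        rcases hl (mem_bigLevels.mp hlB).2 x hx with e | e
        · rw [e, map_one]
        · rw [e]; exact hzsign _ hlB
    intro s hs'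
    exact hle (hs.symm ▸ hs')
  -- two transpositions, one inside `k1`, one inside `k2`
  have hk1' : Central S₂ k1 := (dich k1 hk1B).resolve_left hk1
  obtain ⟨hk12, hbit1⟩ := mem_bigLevels.mp hk1B
  obtain ⟨hk22, hbit2⟩ := mem_bigLevels.mp hk2B
  obtain ⟨a, ha⟩ := exists_point hbit1
  obtain ⟨b, hb⟩ := exists_point hbit2
  obtain ⟨a', hane, ha'⟩ := (lt_half_iff a).mp (by have := lt_of_level hk1B ha; omega)
  obtain ⟨b', hbne, hb'⟩ := (lt_half_iff b).mp (by have := lt_of_level hk2B hb; omega)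
  let τ : ↥(dyadic n) := ⟨_, mul_mem (swap_mem ha'.symm) (swap_mem hb'.symm)⟩
  have hτ : τ ∈ evenPart n := by
    rw [mem_evenPart]
    show Equiv.Perm.sign (Equiv.swap a a' * Equiv.swap b b') = 1
    rw [map_mul, Equiv.Perm.sign_swap (Ne.symm hane), Equiv.Perm.sign_swap (Ne.symm hbne),
      Int.units_mul_self]
  have hp : ∀ (u u' : Fin n) (hu : u'.val / 2 = u.val / 2) (l : ℕ), l ∈ bigLevels n →
      ∀ k, k ∈ bigLevels n → u.val / 2 ^ k = blockClass n k → ∀ hl : n / 2 ^ l % 2 = 1,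
      proj l hl ⟨_, swap_mem hu.symm⟩ = if l = k then Equiv.swap u u' else 1 := by
    intro u u' hu l hlB k hkB huk hl
    refine Equiv.ext fun i => ?_
    rw [proj_apply]
    by_cases hlk : l = k
    · subst hlk
      rw [if_pos rfl]
      split_ifs with hi'
      · rfl
      · rw [swap_fix hu]
        intro e
        exact hi' ((div_eq_of_div_eq (k := 1) (by have := (mem_bigLevels.mp hlB).1; omega)
          (by simpa using e)).trans huk)
    · rw [if_neg hlk]
      split_ifs with hi'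
      · refine swap_fix hu fun e => hlk (class_unique hlB hkB hi' ?_)
        exact (div_eq_of_div_eq (k := 1) (by have := (mem_bigLevels.mp hkB).1; omega)
          (by simpa using e)).trans huk
      · rfl
  have hne12 : k1 ∈ B1 ∧ k2 ∉ B1 :=
    ⟨Finset.mem_filter.mpr ⟨hk1B, hk1'⟩, fun h => hk2 (Finset.mem_filter.mp h).2⟩
  have := hφ τ hτ
  rw [show τ = ⟨_, swap_mem ha'.symm⟩ * ⟨_, swap_mem hb'.symm⟩ from rfl, map_mul] at this
  have e1 : φ ⟨_, swap_mem ha'.symm⟩ = -1 := by
    show (∏ l ∈ B1.attach, _) = _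
    rw [Finset.prod_eq_single ⟨k1, hne12.1⟩]
    · rw [hp a a' ha' k1 hk1B k1 hk1B ha, if_pos rfl, Equiv.Perm.sign_swap (Ne.symm hane)]
    · rintro ⟨l, hl⟩ - hne
      rw [hp a a' ha' l (Finset.mem_filter.mp hl).1 k1 hk1B ha,
        if_neg (fun e => hne (Subtype.ext e)), map_one]
    · intro h; exact absurd (Finset.mem_attach _ _) h
  have e2 : φ ⟨_, swap_mem hb'.symm⟩ = 1 := by
    show (∏ l ∈ B1.attach, _) = _
    refine Finset.prod_eq_one fun l _ => ?_
    rw [hp b b' hb' l.1 (Finset.mem_filter.mp l.2).1 k2 hk2B hb,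
      if_neg (fun e : l.1 = k2 => hne12.2 (e ▸ l.2)), map_one]
  rw [e1, e2] at this
  exact absurd this (by decide)

/-- With an extra pair and several big blocks the even part decomposes. -/
theorem dec_of_pair (h23 : 2 ≤ n % 4) (h4 : 4 ≤ n) (hno : ∀ r : ℕ, 4 * (n / 4) ≠ 2 ^ r) :
    Dec (evenPart n) := by
  obtain ⟨k0, hk0B, hk0⟩ := exists_level (n := n) ⟨0, by omega⟩ (by dsimp only; omega)
  obtain ⟨hk02, hbit⟩ := mem_bigLevels.mp hk0B
  have hc0 : blockClass n k0 = 0 := by simpa using hk0.symm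
  -- a point below `4 * (n / 4)` outside the block
  obtain ⟨k1, hk1B, hne, j, hj⟩ : ∃ k1 ∈ bigLevels n, k1 ≠ k0 ∧
      ∃ j : Fin n, j.val / 2 ^ k1 = blockClass n k1 := by
    have hle : 2 ^ k0 < 4 * (n / 4) := by
      rcases lt_trichotomy (2 ^ k0) (4 * (n / 4)) with h | h | h
      · exact h
      · exact absurd h.symm (hno k0)
      · exfalso
        obtain ⟨d, rfl⟩ := Nat.exists_eq_add_of_le hk02
        have h1 := Nat.div_mul_le_self n (2 ^ (2 + d))
        rw [← blockClass_add_one hbit, hc0] at h1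
        rw [pow_add] at h h1
        norm_num at h h1
        omega
    obtain ⟨k1, hk1B, hk1⟩ := exists_level (n := n) ⟨2 ^ k0, by omega⟩ hle
    refine ⟨k1, hk1B, ?_, _, hk1⟩
    rintro rfl
    rw [hc0, show ((⟨2 ^ k1, by omega⟩ : Fin n)).val = 2 ^ k1 from rfl,
      Nat.div_self (Nat.two_pow_pos _)] at hk1
    omega
  let inB : Fin n → Prop := fun i => i.val / 2 ^ k0 = blockClass n k0
  have stab : ∀ (σ : ↥(dyadic n)) (i : Fin n),
      ((σ.1 i).val < 4 * (n / 4) ↔ i.val < 4 * (n / 4)) := by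
    intro σ i
    have := full_iff σ.2 2 i
    norm_num at this
    constructor <;> intro h <;> omega
  let S₁ : Subgroup ↥(dyadic n) :=
    { carrier := {σ | σ ∈ evenPart n ∧ ∀ i : Fin n, i.val < 4 * (n / 4) → ¬ inB i → σ.1 i = i}
      one_mem' := ⟨one_mem _, fun _ _ _ => rfl⟩
      mul_mem' := fun {a b} ha hb => ⟨mul_mem ha.1 hb.1, fun i h1 h2 => by
        show a.1 (b.1 i) = i
        rw [hb.2 i h1 h2, ha.2 i h1 h2]⟩
      inv_mem' := fun {a} ha => ⟨inv_mem ha.1, fun i h1 h2 => by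
        show a.1⁻¹ i = i
        rw [Equiv.Perm.inv_eq_iff_eq, ha.2 i h1 h2]⟩ }
  let S₂ : Subgroup ↥(dyadic n) :=
    { carrier := {σ | σ ∈ evenPart n ∧ ∀ i : Fin n, inB i → σ.1 i = i}
      one_mem' := ⟨one_mem _, fun _ _ => rfl⟩
      mul_mem' := fun {a b} ha hb => ⟨mul_mem ha.1 hb.1, fun i h1 => by
        show a.1 (b.1 i) = i
        rw [hb.2 i h1, ha.2 i h1]⟩
      inv_mem' := fun {a} ha => ⟨inv_mem ha.1, fun i h1 => by
        show a.1⁻¹ i = i
        rw [Equiv.Perm.inv_eq_iff_eq, ha.2 i h1]⟩ }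
  let u : Fin n := ⟨4 * (n / 4), by omega⟩
  let u' : Fin n := ⟨4 * (n / 4) + 1, by omega⟩
  have hu : u'.val / 2 = u.val / 2 := by dsimp only [u, u']; omega
  have huu : u ≠ u' := by simp [u, u', Fin.ext_iff]
  let τ : ↥(dyadic n) := ⟨_, swap_mem hu.symm⟩
  have hτlow : ∀ i : Fin n, i.val < 4 * (n / 4) → τ.1 i = i := by
    intro i hi
    exact swap_fix hu (by dsimp only [u]; omega)
  have mk : ∀ σ : ↥(dyadic n), ∃ τ' : ↥(dyadic n), σ * τ' ∈ evenPart n ∧
      ∀ i : Fin n, i.val < 4 * (n / 4) → τ'.1 i = i := by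
    intro σ
    rcases Int.units_eq_one_or (Equiv.Perm.sign σ.1) with e | e
    · exact ⟨1, by simpa [mem_evenPart] using e, fun _ _ => rfl⟩
    · refine ⟨τ, ?_, hτlow⟩
      show Equiv.Perm.sign (σ.1 * τ.1) = 1
      rw [map_mul, e, Equiv.Perm.sign_swap huu]; rfl
  have hlowB : ∀ i : Fin n, inB i → i.val < 4 * (n / 4) := fun i hi => lt_of_level hk0B hi
  refine ⟨S₁, S₂, ?_, ?_, fun x hx => hx.1, fun x hx => hx.1, ?_, ?_, ?_⟩
  · intro e
    obtain ⟨τ', he, hf⟩ := mk ⟨_, xorOn_mem (n := n) k0 (fun c => decide (c = blockClass n k0)) 1⟩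
    have hmem : (⟨pairSwap n k0, xorOn_mem _ _ _⟩ : ↥(dyadic n)) * τ' ∈ S₁ := ⟨he, fun i h1 h2 => by
      show pairSwap n k0 (τ'.1 i) = i
      rw [hf i h1, pairSwap_fix h2]⟩
    rw [e, Subgroup.mem_bot] at hmem
    have h0 := congrArg (fun g : ↥(dyadic n) => (g.1 (⟨0, by omega⟩ : Fin n)).val) hmem
    simp only [Subgroup.coe_mul, Equiv.Perm.mul_apply, Subgroup.coe_one, Equiv.Perm.one_apply] at h0
    rw [hf _ (by dsimp only; omega), pairSwap_val (by omega) hbit (by dsimp only; simp [hc0])] at h0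
    simp at h0
  · intro e
    obtain ⟨hk12, hbit1⟩ := mem_bigLevels.mp hk1B
    obtain ⟨τ', he, hf⟩ := mk ⟨_, xorOn_mem (n := n) k1 (fun c => decide (c = blockClass n k1)) 1⟩
    have hmem : (⟨pairSwap n k1, xorOn_mem _ _ _⟩ : ↥(dyadic n)) * τ' ∈ S₂ := ⟨he, fun i h1 => by
      show pairSwap n k1 (τ'.1 i) = i
      rw [hf i (hlowB i h1), pairSwap_fix fun h => hne (class_unique hk1B hk0B h h1)]⟩
    rw [e, Subgroup.mem_bot] at hmem
    have h0 := congrArg (fun g : ↥(dyadic n) => (g.1 j).val) hmem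
    simp only [Subgroup.coe_mul, Equiv.Perm.mul_apply, Subgroup.coe_one, Equiv.Perm.one_apply] at h0
    rw [hf _ (lt_of_level hk1B hj), pairSwap_val (by omega) hbit1 hj] at h0
    have := congrArg (j.val ^^^ ·) h0
    simp [← Nat.xor_assoc] at this
  · intro a ha b hb
    refine Subtype.ext (Equiv.ext fun i => ?_)
    show a.1 (b.1 i) = b.1 (a.1 i)
    by_cases hlow : i.val < 4 * (n / 4)
    · by_cases hin : inB i
      · rw [hb.2 i hin, hb.2 _ ((blockClass_stable a.2 hbit i).mpr hin)]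
      · rw [ha.2 i hlow hin, ha.2 _ ((stab b i).mpr hlow) fun e => hin ((blockClass_stable b.2 hbit i).mp e)]
    · by_cases hfull : i.val / 2 < n / 2
      · have hh : ∀ (g : ↥(dyadic n)) (x : Fin n), (x = u ∨ x = u') → g.1 x = u ∨ g.1 x = u' := by
          intro g x hx
          have h1 : ¬ (g.1 x).val < 4 * (n / 4) := fun e => by
            have := (stab g x).mp e
            rcases hx with rfl | rfl <;> dsimp only [u, u'] at this <;> omega
          have h2 := (presPairs_lt_half (presPairs_of_mem g.2) x).mpr (by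
            rcases hx with rfl | rfl <;> dsimp only [u, u'] <;> omega)
          rcases Nat.mod_two_eq_zero_or_one (g.1 x).val with e | e
          · left; ext; dsimp only [u]; omega
          · right; ext; dsimp only [u']; omega
        have hi' : i = u ∨ i = u' := by
          rcases Nat.mod_two_eq_zero_or_one i.val with e | e
          · left; ext; dsimp only [u]; omega
          · right; ext; dsimp only [u']; omega
        have tri : ∀ g : ↥(dyadic n), (g.1 u = u ∧ g.1 u' = u') ∨ (g.1 u = u' ∧ g.1 u' = u) := by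
          intro g
          rcases hh g u (Or.inl rfl) with x | x <;> rcases hh g u' (Or.inr rfl) with y | y
          · exact absurd (g.1.injective (x.trans y.symm)) huu
          · exact Or.inl ⟨x, y⟩
          · exact Or.inr ⟨x, y⟩
          · exact absurd (g.1.injective (x.trans y.symm)) huu
        rcases hi' with rfl | rfl <;> rcases tri a with ⟨a1, a2⟩ | ⟨a1, a2⟩ <;>
          rcases tri b with ⟨b1, b2⟩ | ⟨b1, b2⟩ <;> simp only [a1, a2, b1, b2]
      · simp only [apply_last (presPairs_of_mem b.2) i hfull, apply_last (presPairs_of_mem a.2) i hfull]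
  · rw [eq_bot_iff]
    rintro x ⟨hx1, hx2⟩
    refine Subgroup.mem_bot.mpr (eq_one_of_fix hx1.1 fun i hi => ?_)
    by_cases hin : inB i
    · exact hx2.2 i hin
    · exact hx1.2 i hi hin
  · refine le_antisymm (sup_le (fun x hx => hx.1) (fun x hx => hx.1)) fun s hs => ?_
    obtain ⟨τ', he, hf⟩ := mk ⟨proj k0 hbit s, proj_mem _ hbit s⟩
    set s1 := (⟨proj k0 hbit s, proj_mem _ hbit s⟩ : ↥(dyadic n)) * τ' with hs1
    have h1 : s1 ∈ S₁ := ⟨he, fun i hl hin => by
      show proj k0 hbit s (τ'.1 i) = i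
      rw [hf i hl, proj_apply, if_neg hin]⟩
    have h2 : s1⁻¹ * s ∈ S₂ := ⟨mul_mem (inv_mem he) hs, fun i hin => by
      show (s1.1)⁻¹ (s.1 i) = i
      rw [Equiv.Perm.inv_eq_iff_eq]
      show s.1 i = proj k0 hbit s (τ'.1 i)
      rw [hf i (hlowB i hin), proj_self hbit s hin]⟩
    have := Subgroup.mul_mem_sup h1 h2
    rwa [mul_inv_cancel_left] at this

end Cfsg.Agent.Lib.SymSylow.Indecomposable
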